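import Groth.Agent.Pic13.H946.CoreGood
import Groth.Agent.EtpbcA.CdFinDim
import Groth.Agent.Ega3B.Devissage

/-!
# The devissage part of the boundedness core

`core_of_integral`: if for every integral `Z` proper over `k` and `H` ample on `Z` such that all coherent modules with
support `≠ Z` are good, `O_Z` is good, then every coherent module on every `X` proper over `k` with `H` ample is good.
-/

set_option autoImplicit false
universe u
open CategoryTheory CategoryTheory.Limits AlgebraicGeometry Opposite TopologicalSpace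

namespace Groth.Agent.Pic13.H946.CoreDev

open Groth.Agent.Ega2 Groth.Agent.Fdesc.LocGen Groth.Agent.Fga.PicMon Groth.Agent.CohqB.SerTw
open Groth.Agent.VarietyA.EulerLES Groth.Agent.Pic13.H946.ChiTriv Groth.Agent.Pic13.H946.Core
open Groth.Agent.Pic13.H946.Main Groth.Agent.Pic13.H946.CoreGood

section Transfer

variable (k : Type u) [Field k] {X Z : Scheme.{u}} [X.Over (Spec (CommRingCat.of k))]
  [Z.Over (Spec (CommRingCat.of k))] (i : Z ⟶ X) [IsClosedImmersion i]

/-- Numerical triviality is stable under restriction to closed subschemes. -/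
theorem isNumEquivZero_closed (hi : i ≫ (X ↘ Spec (CommRingCat.of k)) = Z ↘ Spec (CommRingCat.of k))
    {N : X.Modules} (hN : Pic13.IsNumEquivZero k X N) :
    Pic13.IsNumEquivZero k Z ((Scheme.Modules.pullback i).obj N) := by
  intro Y j _ hY hd
  have h := hN Y (j ≫ i) hY hd
  rw [Category.assoc, hi] at h
  rw [← h]
  let _ : Y.Over (Spec (CommRingCat.of k)) := ⟨j ≫ (Z ↘ Spec (CommRingCat.of k))⟩
  have e : FGA.eulerCharLE k Y ((Scheme.Modules.pullback j).obj ((Scheme.Modules.pullback i).obj N)) 1 =
      FGA.eulerCharLE k Y ((Scheme.Modules.pullback (j ≫ i)).obj N) 1 :=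
    euler_iso k Y ((Scheme.Modules.pullbackComp j i).app N) 1
  change FGA.eulerCharLE k Y ((Scheme.Modules.pullback j).obj ((Scheme.Modules.pullback i).obj N)) 1 - _ =
    FGA.eulerCharLE k Y ((Scheme.Modules.pullback (j ≫ i)).obj N) 1 - _
  rw [e]

/-- Cohomology of a twist of a direct image. -/
theorem exists_equiv (hi : i ≫ (X ↘ Spec (CommRingCat.of k)) = Z ↘ Spec (CommRingCat.of k))
    {W : X.Modules} (hW : PicF.IsInvertible W) {W' : Z.Modules}
    (e : Nonempty ((Scheme.Modules.pullback i).obj W ≅ W')) (G : Z.Modules) (q : ℕ) :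
    Nonempty (Coh.HH X (CohB1.tensorMod ((Coh.push i).obj G) W) q ≃ₗ[k] Coh.HH Z (CohB1.tensorMod G W') q) := by
  obtain ⟨e⟩ := e
  obtain ⟨e1⟩ := push_iso i hW G
  exact ⟨(hmapEquiv k X e1 q).trans ((CurvesC.CurveNum.hhPushₗ k i hi _ q).symm.trans
    (hmapEquiv k Z (Tens.mapTIso (Iso.refl G) e) q))⟩

theorem good_push [IsProper (X ↘ Spec (CommRingCat.of k))]
    (hi : i ≫ (X ↘ Spec (CommRingCat.of k)) = Z ↘ Spec (CommRingCat.of k))
    {H : X.Modules} (hH : PicF.IsInvertible H) {G : Z.Modules}
    (h : Good k Z ((Scheme.Modules.pullback i).obj H) G) : Good k X H ((Coh.push i).obj G) := by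
  have hN' : ∀ {N : X.Modules}, PicF.IsInvertible N → PicF.IsInvertible ((Scheme.Modules.pullback i).obj N) :=
    fun hN => isInvertible_pullback i hN
  refine ⟨?_, ?_, ?_⟩
  · rw [van_iff]
    obtain ⟨p₀, h⟩ := (van_iff k _ _).mp h.van
    refine ⟨p₀, fun N hN hn p hp q hq => ?_⟩
    obtain ⟨e⟩ := exists_equiv k i hi (isInvertible_tensorMod hN (isInvertible_tensorPow hH p))
      (W' := CohB1.tensorMod ((Scheme.Modules.pullback i).obj N)
        (CohB1.tensorPow ((Scheme.Modules.pullback i).obj H) p)) (by
        obtain ⟨e'⟩ := Ega3B.PullTensor.nonempty_pullPowIso i hH p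
        exact ⟨Ega3B.PullTensor.pullTensorIso i hN (isInvertible_tensorPow hH p) ≪≫
          Tens.mapTIso (Iso.refl _) e'⟩) G q
    exact (e.toEquiv.subsingleton_congr).mpr (h _ (hN' hN) (isNumEquivZero_closed k i hi hn) p hp q hq)
  · intro N hN hn
    have h1 : Curv2.euler k X (CohB1.tensorMod ((Coh.push i).obj G) N) =
        Curv2.euler k Z (CohB1.tensorMod G ((Scheme.Modules.pullback i).obj N)) := by
      unfold Curv2.euler
      refine finsum_congr fun q => ?_
      obtain ⟨e⟩ := exists_equiv k i hi hN ⟨Iso.refl _⟩ G q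
      rw [e.finrank_eq]
    have h2 : Curv2.euler k X ((Coh.push i).obj G) = Curv2.euler k Z G := by
      unfold Curv2.euler
      refine finsum_congr fun q => ?_
      have e : Module.finrank k (Coh.HH Z G q) = Module.finrank k (Coh.HH X ((Coh.push i).obj G) q) :=
        (CurvesC.CurveNum.hhPushₗ k i hi G q).finrank_eq
      rw [e]
    rw [h1, h2]
    exact h.chi _ (hN' hN) (isNumEquivZero_closed k i hi hn)
  · obtain ⟨B, h⟩ := h.bh
    refine ⟨B, fun N hN hn => ?_⟩
    obtain ⟨e⟩ := exists_equiv k i hi hN ⟨Iso.refl _⟩ G 0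
    rw [e.finrank_eq]
    exact h _ (hN' hN) (isNumEquivZero_closed k i hi hn)

end Transfer

section Ideal

/-- A submodule of the structure sheaf of an integral scheme is torsion or has a torsion cokernel. -/
theorem torsion_or_torsion {Z : Scheme.{u}} [IsIntegral Z] {I : Z.Modules} (ι : I ⟶ Coh.structureModule Z)
    [Mono ι] : genericPoint Z ∉ CohB1.support I ∨ genericPoint Z ∉ CohB1.support (cokernel ι) := by
  by_cases h : genericPoint Z ∈ CohB1.support I
  · right
    have h' : ¬ Subsingleton (I.presheaf.stalk (genericPoint Z)) := h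
    obtain ⟨p, hp⟩ : ∃ p : I.presheaf.stalk (genericPoint Z), p ≠ 0 := by
      by_contra hcon
      push Not at hcon
      exact h' (subsingleton_of_forall_eq 0 hcon)
    obtain ⟨U, hU, f, rfl⟩ := TopCat.Presheaf.exists_germ_eq I.presheaf p
    have hinj := (Ega1.SubSheaf.mono_iff_injective ι).mp inferInstance
    have hf : ι.app U f ≠ 0 := by
      intro h0
      apply hp
      rw [hinj U (h0.trans (map_zero _).symm), map_zero]
    have key : ∀ a : Γ(Z, U), a = ι.app U f → genericPoint Z ∉ CohB1.support (cokernel ι) := by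
      intro a ha
      have hη : genericPoint Z ∈ Z.basicOpen a := by
        have hne : Z.basicOpen a ≠ ⊥ := by
          rw [Ne, basicOpen_eq_bot_iff]
          rintro rfl
          exact hf ha.symm
        refine ((genericPoint_spec Z).mem_open_set_iff (Z.basicOpen a).isOpen).mpr ?_
        rw [Set.univ_inter]
        by_contra hcon
        rw [Set.not_nonempty_iff_eq_empty] at hcon
        exact hne (TopologicalSpace.Opens.ext hcon)
      refine Fga.RegSec.not_mem_support_cokernel _ ?_
      have h1 : IsIso ((CohqB.DevSupport.stalkF Z (genericPoint Z)).map ι) := by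
        refine Fga.RegSec.isIso_stalk_of_bijective ι (Z.basicOpen a) (fun V hV => ⟨hinj V, fun b => ?_⟩) hη
        have hVU : V ≤ U := hV.trans (Z.basicOpen_le a)
        have hu : IsUnit (Z.presheaf.map (homOfLE hVU).op a) := by
          have h1 := (RingedSpace.isUnit_res_basicOpen Z.toRingedSpace a).map (Z.presheaf.map (homOfLE hV).op).hom
          have h2 : (Z.presheaf.map (homOfLE hVU).op a) =
              Z.presheaf.map (homOfLE hV).op (Z.presheaf.map (homOfLE (Z.basicOpen_le a)).op a) := by
            rw [← CommRingCat.comp_apply, ← Functor.map_comp]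
            rfl
          rw [h2]
          exact h1
        obtain ⟨u, hu⟩ := hu
        refine ⟨((show Γ(Z, V) from b) * ((u⁻¹ : (Γ(Z, V))ˣ) : Γ(Z, V))) • res I hVU f, ?_⟩
        rw [Scheme.Modules.Hom.app_smul, app_res, ← ha]
        change (show Γ(Z, V) from b) * ((u⁻¹ : (Γ(Z, V))ˣ) : Γ(Z, V)) * (Z.presheaf.map (homOfLE hVU).op a) = b
        rw [← hu, mul_assoc, Units.inv_mul, mul_one]
      infer_instance
    exact key _ rfl
  · exact Or.inl h

end Ideal

section Resolve

variable {k : Type u} [Field k] {X : Scheme.{u}} [X.Over (Spec (CommRingCat.of k))]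
  [IsProper (X ↘ Spec (CommRingCat.of k))]

/-- Uniform vanishing for the structure sheaf implies uniform vanishing for all coherent modules. -/
theorem vanGe_of_structure {H : X.Modules} (hH : CohB1.IsAmple H) (h : VanGe k X H (Coh.structureModule X) 1)
    (F : X.Modules) (hF : Coh.IsCoh F) : VanGe k X H F 1 := by
  have hNoeth : IsNoetherian X := VarietyA.TwistExist.isNoetherian k X
  have hsep : X.IsSeparated := Fga.HypSec.isSeparated k X
  obtain ⟨d, hd⟩ := EtpbcA.CdFinDim.exists_dim_le (X ↘ Spec (CommRingCat.of k))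
  have key : ∀ t j : ℕ, 1 ≤ j → d + 1 ≤ j + t → ∀ F : X.Modules, Coh.IsCoh F → VanGe k X H F j := by
    intro t
    induction t with
    | zero =>
      intro j _ hj F _
      exact ⟨0, fun N _ _ p _ i hi => Fga.EulerLEAdd.subsingleton_HH X d hd _ i (by omega)⟩
    | succ t ih =>
      intro j hj hjt F hF
      obtain ⟨m, hm⟩ := S2325.result X H hH F hF
      have hF' : Coh.IsCoh (CohB1.tensorMod F (CohB1.tensorPow H m)) :=
        Fga.TwistCoh.isCoh_tensor hF (isInvertible_tensorPow hH.1 m)
      obtain ⟨r, p, hp⟩ := Ega2.H287.FinGenFree.exists_epi_freeMod hF' (hm m le_rfl)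
      have hS : (ShortComplex.mk (kernel.ι p) p (kernel.condition p)).ShortExact :=
        { exact := ShortComplex.exact_of_f_is_kernel _ (kernelIsKernel p)
          mono_f := inferInstanceAs (Mono (kernel.ι p))
          epi_g := hp }
      refine VanGe.of_twist (m := m) ?_
      refine VanGe.right (S := ShortComplex.mk (kernel.ι p) p (kernel.condition p)) hH.1 hS ?_ ?_
      · exact (h.mono hj).freeMod r
      · exact ih (j + 1) (by omega) (by omega) _
          (PerfA.CohSerre.isCoh_kernel p (PerfA.CohSerre.isCoh_freeMod r) hF'.1)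
  exact key d 1 le_rfl (by omega) F hF

end Resolve

section Induction

variable (k : Type u) [Field k]

/-- The statement for integral schemes of dimension `< n`. -/
def StmtInt (n : ℕ) : Prop :=
  ∀ (X : Scheme.{u}) [X.Over (Spec (CommRingCat.of k))] [IsProper (X ↘ Spec (CommRingCat.of k))] [IsIntegral X],
    topologicalKrullDim X < (n : WithBot ℕ∞) → ∀ H : X.Modules, CohB1.IsAmple H → ∀ F : X.Modules, Coh.IsCoh F →
      Good k X H F

/-- The integral step. -/
def IntStep : Prop :=
  ∀ (Z : Scheme.{u}) [Z.Over (Spec (CommRingCat.of k))] [IsProper (Z ↘ Spec (CommRingCat.of k))] [IsIntegral Z]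
    (H : Z.Modules), CohB1.IsAmple H →
    (∀ G : Z.Modules, Coh.IsCoh G → CohB1.support G ≠ Set.univ → Good k Z H G) → Good k Z H (Coh.structureModule Z)

variable {k}

theorem isCoh_ideal {Z : Scheme.{u}} [IsLocallyNoetherian Z] {I : Z.Modules} (ι : I ⟶ Coh.structureModule Z) [Mono ι]
    (hI : Coh.IsQCoh I) : Coh.IsCoh I :=
  S0046.result Z _ _ ι (VarietyA.CurveFin.isCoh_of_isInvertible isInvertible_structureModule) hI

/-- Torsion modules are good. -/
theorem good_torsion {n : ℕ} (IH : StmtInt k n) {X : Scheme.{u}} [X.Over (Spec (CommRingCat.of k))]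
    [IsProper (X ↘ Spec (CommRingCat.of k))] [IsIntegral X]
    (hX : topologicalKrullDim X < ((n + 1 : ℕ) : WithBot ℕ∞)) {H : X.Modules} (hH : CohB1.IsAmple H) (F : X.Modules)
    (hF : Coh.IsCoh F) (hη : genericPoint X ∉ CohB1.support F) : Good k X H F := by
  have hNoeth : IsNoetherian X := VarietyA.TwistExist.isNoetherian k X
  refine S0027.result X (fun F => genericPoint X ∉ CohB1.support F → Good k X H F)
    ?_ ?_ ?_ F hF hη
  · rintro M N ⟨e⟩ h hN
    exact (h (by rwa [CohqB.DevSupport.support_congr e])).congr ((mc_eq_iff _ _).mpr ⟨e⟩)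
  · intro S hS c1 c2 c3 h1 h3 h2
    rw [CohqB.DevSupport.support_shortExact hS] at h2
    exact Good.mid hH.1 hS c1 c2 c3 (h1 fun h => h2 (Or.inl h)) (h3 fun h => h2 (Or.inr h))
  · intro Z i hi hZ I ι hι hI h
    by_cases hr : Set.range i = Set.univ
    · have h1 : i (genericPoint Z) = genericPoint X := by
        have h2 : IsGenericPoint (i (genericPoint Z)) (Set.univ : Set X) := by
          have := Fga.MultInt.closure_generic X Z i
          rw [hr] at this
          exact this
        exact h2.eq (genericPoint_spec X)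
      have h2 : genericPoint Z ∉ CohB1.support I := by
        intro h3
        apply h
        rw [CohqB.DevSimple.support_push, ← h1]
        exact ⟨_, h3, rfl⟩
      exact good_of_isZero ((Coh.push i).map_isZero (isZero_of_torsion ι h2))
    · have hZN : IsLocallyNoetherian Z := LocallyOfFiniteType.isLocallyNoetherian i
      let _ : Z.Over (Spec (CommRingCat.of k)) := ⟨i ≫ (X ↘ Spec (CommRingCat.of k))⟩
      have hZp : IsProper (Z ↘ Spec (CommRingCat.of k)) :=
        inferInstanceAs (IsProper (i ≫ (X ↘ Spec (CommRingCat.of k))))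
      exact good_push k i rfl hH.1 (IH Z (dim_lt_of_range_ne hX i hr) _
        (CohqB.AmpCocycle.isAmple_pullback i hH) I (isCoh_ideal ι hI))

theorem stmtInt_succ (hstep : IntStep k) {n : ℕ} (IH : StmtInt k n) : StmtInt k (n + 1) := by
  -- the structure sheaf
  have hO : ∀ (X : Scheme.{u}) [X.Over (Spec (CommRingCat.of k))] [IsProper (X ↘ Spec (CommRingCat.of k))]
      [IsIntegral X], topologicalKrullDim X < ((n + 1 : ℕ) : WithBot ℕ∞) → ∀ H : X.Modules, CohB1.IsAmple H →
        Good k X H (Coh.structureModule X) := by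
    intro X _ _ _ hX H hH
    refine hstep X H hH fun G hG hne => good_torsion IH hX hH G hG fun hη => hne ?_
    have hNoeth : IsNoetherian X := VarietyA.TwistExist.isNoetherian k X
    have hcl := Ega3B.Devissage.isClosed_support hG
    have h1 := hcl.closure_subset_iff.mpr (Set.singleton_subset_iff.mpr hη)
    have h2 : closure {genericPoint X} = (Set.univ : Set X) := genericPoint_spec X
    rw [h2] at h1
    exact Set.univ_subset_iff.mp h1
  -- ideals
  have hI : ∀ (X : Scheme.{u}) [X.Over (Spec (CommRingCat.of k))] [IsProper (X ↘ Spec (CommRingCat.of k))]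
      [IsIntegral X], topologicalKrullDim X < ((n + 1 : ℕ) : WithBot ℕ∞) → ∀ H : X.Modules, CohB1.IsAmple H →
        ∀ (I : X.Modules) (ι : I ⟶ Coh.structureModule X) [Mono ι], Coh.IsCoh I → Good k X H I := by
    intro X _ _ _ hX H hH I ι _ hI
    have hNoeth : IsNoetherian X := VarietyA.TwistExist.isNoetherian k X
    have hOc : Coh.IsCoh (Coh.structureModule X) :=
      VarietyA.CurveFin.isCoh_of_isInvertible isInvertible_structureModule
    rcases torsion_or_torsion ι with h | h
    · exact good_torsion IH hX hH I hI h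
    · have hC : Coh.IsCoh (cokernel ι) := PerfA.CohSerre.isCoh_cokernel ι hI.1 hOc
      have hCg := good_torsion IH hX hH (cokernel ι) hC h
      have hOg := hO X hX H hH
      have h1 : VAN k X H I := (van_iff k _ _).mpr (vanGe_of_structure hH ((van_iff k _ _).mp hOg.van) I hI)
      have h2 : CHI k X I := CHI.left (S := cokSeq ι) (cokSeq_shortExact ι) hI hOc hC hOg.chi hCg.chi
      have h3 : BH k X I := BH.of_mono ι hOc hOg.bh
      exact ⟨h1, h2, h3⟩
  intro X _ _ _ hX H hH F hF
  have hNoeth : IsNoetherian X := VarietyA.TwistExist.isNoetherian k X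
  refine S0027.result X (fun F => Good k X H F) ?_ ?_ ?_ F hF
  · rintro M N ⟨e⟩ h
    exact h.congr ((mc_eq_iff _ _).mpr ⟨e⟩)
  · intro S hS c1 c2 c3 h1 h3
    exact Good.mid hH.1 hS c1 c2 c3 h1 h3
  · intro Z i hi hZ I ι hι hIq
    have hZN : IsLocallyNoetherian Z := LocallyOfFiniteType.isLocallyNoetherian i
    let _ : Z.Over (Spec (CommRingCat.of k)) := ⟨i ≫ (X ↘ Spec (CommRingCat.of k))⟩
    have hZp : IsProper (Z ↘ Spec (CommRingCat.of k)) :=
      inferInstanceAs (IsProper (i ≫ (X ↘ Spec (CommRingCat.of k))))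
    exact good_push k i rfl hH.1 (hI Z (lt_of_le_of_lt i.isClosedEmbedding.isInducing.topologicalKrullDim_le hX) _
      (CohqB.AmpCocycle.isAmple_pullback i hH) I ι (isCoh_ideal ι hIq))

theorem stmtInt (hstep : IntStep k) : ∀ n : ℕ, StmtInt k n := by
  intro n
  induction n with
  | zero =>
    intro X _ _ _ hX
    exfalso
    have := Fga.IntNum0.topologicalKrullDim_nonneg X
    exact absurd hX (not_lt.mpr (by exact_mod_cast this))
  | succ n ih => exact stmtInt_succ hstep ih

/-- **Devissage.**  The integral step implies that all coherent modules are good. -/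
theorem core_of_integral (hstep : IntStep k) {X : Scheme.{u}} [X.Over (Spec (CommRingCat.of k))]
    [IsProper (X ↘ Spec (CommRingCat.of k))] {H : X.Modules} (hH : CohB1.IsAmple H) (F : X.Modules)
    (hF : Coh.IsCoh F) : Good k X H F := by
  have hNoeth : IsNoetherian X := VarietyA.TwistExist.isNoetherian k X
  obtain ⟨d, hd⟩ := EtpbcA.CdFinDim.exists_dim_le (X ↘ Spec (CommRingCat.of k))
  rcases isEmpty_or_nonempty X with hemp | hne
  · refine good_of_isZero (CohqB.DevSupport.isZero_of_support_eq_empty ?_)
    exact Set.eq_empty_of_isEmpty _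
  · refine S0027.result X (fun F => Good k X H F) ?_ ?_ ?_ F hF
    · rintro M N ⟨e⟩ h
      exact h.congr ((mc_eq_iff _ _).mpr ⟨e⟩)
    · intro S hS c1 c2 c3 h1 h3
      exact Good.mid hH.1 hS c1 c2 c3 h1 h3
    · intro Z i hi hZ I ι hι hIq
      have hZN : IsLocallyNoetherian Z := LocallyOfFiniteType.isLocallyNoetherian i
      let _ : Z.Over (Spec (CommRingCat.of k)) := ⟨i ≫ (X ↘ Spec (CommRingCat.of k))⟩
      have hZp : IsProper (Z ↘ Spec (CommRingCat.of k)) :=
        inferInstanceAs (IsProper (i ≫ (X ↘ Spec (CommRingCat.of k))))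
      refine good_push k i rfl hH.1 (stmtInt hstep (d + 1) Z ?_ _
        (CohqB.AmpCocycle.isAmple_pullback i hH) I (isCoh_ideal ι hIq))
      refine lt_of_le_of_lt (i.isClosedEmbedding.isInducing.topologicalKrullDim_le.trans hd) ?_
      exact_mod_cast Nat.lt_succ_self d

end Induction

end Groth.Agent.Pic13.H946.CoreDev
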