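import Groth.Agent.Pic13.H946.Main

/-!
# Twists of an ample module by powers of a `χ`-trivial module and of its inverse
-/

set_option autoImplicit false
universe u
open CategoryTheory CategoryTheory.Limits AlgebraicGeometry

namespace Groth.Agent.Pic13.H946.Asm

open Groth.Agent.Ega2 Groth.Agent.Fdesc.LocGen Groth.Agent.Fga.PicMon
open Groth.Agent.Pic13.H946.ChiTriv

/-- `L^m ⊗ H` is ample for `H` ample and `L` invertible and `χ`-trivial. -/
theorem isAmple_pow_tensor (k : Type u) [Field k] {X : Scheme.{u}} [X.Over (Spec (CommRingCat.of k))]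
    [IsProper (X ↘ Spec (CommRingCat.of k))] (d : ℕ) (hd : topologicalKrullDim X ≤ d) {H L : X.Modules}
    (hH : CohB1.IsAmple H) (hL : PicF.IsInvertible L) (hχ : ChiTriv k X d L) (m : ℕ) :
    CohB1.IsAmple (CohB1.tensorMod (CohB1.tensorPow L m) H) :=
  CohqB.AmpCocycle.isAmple_of_iso (Tens.swap _ _)
    (Main.isAmple_tensor k d hd hH (isInvertible_tensorPow hL m) (hχ.pow hL m))

/-- Both conjuncts for `L` and its inverse `L'`. -/
theorem isAmple_both (k : Type u) [Field k] {X : Scheme.{u}} [X.Over (Spec (CommRingCat.of k))]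
    [IsProper (X ↘ Spec (CommRingCat.of k))] (d : ℕ) (hd : topologicalKrullDim X ≤ d) {H L L' : X.Modules}
    (hH : CohB1.IsAmple H) (hL : PicF.IsInvertible L)
    (hLL' : Nonempty (CohB1.tensorMod L L' ≅ Coh.structureModule X)) (hχ : ChiTriv k X d L) (m : ℕ) :
    CohB1.IsAmple (CohB1.tensorMod (CohB1.tensorPow L m) H) ∧
      CohB1.IsAmple (CohB1.tensorMod (CohB1.tensorPow L' m) H) := by
  obtain ⟨e⟩ := hLL'
  have hL' : PicF.IsInvertible L' := S2122.result L' L (Tens.swap _ _ ≪≫ e)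
  have h : mc L * mc L' = 1 := (mc_eq_iff _ _).2 ⟨e⟩
  exact ⟨isAmple_pow_tensor k d hd hH hL hχ m, isAmple_pow_tensor k d hd hH hL' (hχ.inv hL' h) m⟩

end Groth.Agent.Pic13.H946.Asm
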