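import Groth.Agent.Fga.MultInt
import Groth.Agent.Fga.HypSec
import Groth.Agent.Ega3B.PullTensor
import Groth.Agent.S0019
import Groth.Agent.S2122
import Groth.Agent.CohqB.SerTw
import Groth.Agent.VarietyA.CurveFin

/-!
# Invertible modules that do not change Euler characteristics

`ChiTriv k X d L`: `χ(F ⊗ L) = χ(F)` for every coherent `F` on `X` (Euler characteristics in degrees `≤ d`).
Stable under tensor powers, inverses, and restriction to closed subschemes.
-/

set_option autoImplicit false
universe u
open CategoryTheory CategoryTheory.Limits AlgebraicGeometry Opposite TopologicalSpace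

namespace Groth.Agent.Pic13.H946.ChiTriv

open Groth.Agent.Ega2 Groth.Agent.Fga.PicMon Groth.Agent.Fdesc.LocGen

section Def

variable (k : Type u) [Field k] (X : Scheme.{u}) [X.Over (Spec (CommRingCat.of k))] (d : ℕ)

/-- Tensoring with `L` does not change the Euler characteristic of coherent modules. -/
def ChiTriv (L : X.Modules) : Prop :=
  ∀ F : X.Modules, Coh.IsCoh F →
    FGA.eulerCharLE k X (CohB1.tensorMod F L) d = FGA.eulerCharLE k X F d

theorem euler_congr {A B : X.Modules} (h : mc A = mc B) :
    FGA.eulerCharLE k X A d = FGA.eulerCharLE k X B d := by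
  obtain ⟨e⟩ := (mc_eq_iff _ _).mp h
  exact euler_iso k X e d

variable {k X d}

theorem ChiTriv.congr {L M : X.Modules} (hL : ChiTriv k X d L) (h : mc L = mc M) : ChiTriv k X d M := by
  intro F hF
  rw [← hL F hF]
  exact euler_congr k X d (by rw [mc_tensor, mc_tensor, h])

theorem ChiTriv.one : ChiTriv k X d (Coh.structureModule X) := fun F _ =>
  euler_congr k X d (by rw [mc_tensor, mc_one, mul_one])

theorem ChiTriv.tensor {L M : X.Modules} (hL : ChiTriv k X d L) (hL' : PicF.IsInvertible L)
    (hM : ChiTriv k X d M) : ChiTriv k X d (CohB1.tensorMod L M) := by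
  intro F hF
  rw [← hL F hF, ← hM _ (Fga.TwistCoh.isCoh_tensor hF hL')]
  exact euler_congr k X d (by rw [mc_tensor, mc_tensor, mc_tensor, mc_tensor, mul_assoc])

theorem ChiTriv.pow {L : X.Modules} (hL : ChiTriv k X d L) (hL' : PicF.IsInvertible L) (n : ℕ) :
    ChiTriv k X d (CohB1.tensorPow L n) := by
  induction n with
  | zero => exact ChiTriv.one
  | succ n ih => exact ih.tensor (isInvertible_tensorPow hL' n) hL

theorem ChiTriv.inv {L L' : X.Modules} (hL : ChiTriv k X d L) (hL' : PicF.IsInvertible L')
    (h : mc L * mc L' = 1) : ChiTriv k X d L' := by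
  intro F hF
  rw [← hL _ (Fga.TwistCoh.isCoh_tensor hF hL')]
  exact euler_congr k X d (by rw [mc_tensor, mc_tensor, mul_assoc, mul_comm (mc L'), h, mul_one])

/-- The Euler characteristics of the powers of `H ⊗ L` are those of the powers of `H`. -/
theorem ChiTriv.euler_pow {L : X.Modules} (hL : ChiTriv k X d L) (hL' : PicF.IsInvertible L) {H : X.Modules}
    (hH : PicF.IsInvertible H) (n : ℕ) :
    FGA.eulerCharLE k X (CohB1.tensorPow (CohB1.tensorMod H L) n) d =
      FGA.eulerCharLE k X (CohB1.tensorPow H n) d := by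
  rw [← hL.pow hL' n _ (VarietyA.CurveFin.isCoh_of_isInvertible (isInvertible_tensorPow hH n))]
  exact euler_congr k X d (by rw [mc_tensor, mc_tensorPow, mc_tensorPow, mc_tensorPow, mc_tensor, mul_pow])

end Def

section Closed

variable {X Z : Scheme.{u}} (i : Z ⟶ X)

/-- Projection formula for an invertible module, twisting on the right. -/
theorem push_iso {E : X.Modules} (hE : PicF.IsInvertible E) (G : Z.Modules) :
    Nonempty (CohB1.tensorMod ((Coh.push i).obj G) E ≅
      (Coh.push i).obj (CohB1.tensorMod G ((Scheme.Modules.pullback i).obj E))) :=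
  ⟨Tens.swap _ _ ≪≫ VarietyB.ProjForm.projIso i (Fga.MultInt.hasBases hE) G ≪≫
    (Coh.push i).mapIso (Tens.swap _ _)⟩

variable (k : Type u) [Field k] [X.Over (Spec (CommRingCat.of k))]
  [Z.Over (Spec (CommRingCat.of k))] [IsClosedImmersion i]

theorem isCoh_push [IsLocallyNoetherian X] {G : Z.Modules} (hG : Coh.IsCoh G) :
    Coh.IsCoh ((Coh.push i).obj G) := S0019.result i G hG

/-- Restriction to closed subschemes. -/
theorem ChiTriv.pullback [IsLocallyNoetherian X]
    (hi : i ≫ (X ↘ Spec (CommRingCat.of k)) = Z ↘ Spec (CommRingCat.of k)) {d : ℕ}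
    {L : X.Modules} (hL : ChiTriv k X d L) (hL' : PicF.IsInvertible L) :
    ChiTriv k Z d ((Scheme.Modules.pullback i).obj L) := by
  intro G hG
  obtain ⟨e⟩ := push_iso i hL' G
  rw [← Fga.MultInt.euler_push k i hi, ← Fga.MultInt.euler_push k i hi, ← euler_iso k X e d]
  exact hL _ (isCoh_push i hG)

end Closed

end Groth.Agent.Pic13.H946.ChiTriv
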