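import Groth.Agent.CohqB.SerTw
import Groth.Agent.Fga.GenIso
import Groth.Agent.Fga.RegSec
import Groth.Agent.CohqB.VanSub

/-!
# Sections of a module vanishing at a point factor through the twisted ideal of the point

`PMax P j` for `j : K ⟶ G`: locally on `X`, `G` has a generator `e` and every multiple `c • e` by a function `c`
vanishing at `P` is in the image of `j`.  It holds for the ideal of `P` in `O_X`, is stable under tensoring with
invertible modules, and if `j` is a monomorphism, every section `t : O ⟶ G` not generating at `P` factors through `j`.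
-/

set_option autoImplicit false
universe u
open CategoryTheory CategoryTheory.Limits AlgebraicGeometry Opposite TopologicalSpace

namespace Groth.Agent.Pic13.H946.PMax

open Groth.Agent.Fdesc.LocGen Groth.Agent.CohqB.VanSub Groth.Agent.CohqB.SerTw

variable {X : Scheme.{u}}

/-- Locally all multiples of a generator of `G` by functions vanishing at `P` are in the image of `j`. -/
def PMax (P : X) {K G : X.Modules} (j : K ⟶ G) : Prop :=
  ∀ y : X, ∃ (W : X.Opens) (e : Γ(G, W)), y ∈ W ∧ IsGen e ∧
    ∀ (V : X.Opens) (hV : V ≤ W) (c : Γ(X, V)), P ∉ X.basicOpen c →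
      ∃ e' : Γ(K, V), j.app V e' = c • res G hV e

theorem pmax_van (P : X) : PMax P (van {P}).ι := by
  refine fun y => ⟨⊤, one ⊤, trivial, isGen_one ⊤, fun V hV c hc => ?_⟩
  refine ⟨(van {P}).sec (ofFun c) ?_, ?_⟩
  · rw [mem_van]
    rintro x rfl
    exact hc
  · rw [res_one, ← ofFun_eq_smul]
    rfl

theorem PMax.tensor {P : X} {K G : X.Modules} {j : K ⟶ G} (hj : PMax P j) {M : X.Modules}
    (hM : PicF.IsInvertible M) : PMax P ((tw M).map j) := by
  intro y
  obtain ⟨W, e, hyW, he, h⟩ := hj y
  obtain ⟨U, m, hyU, hm⟩ := (isInvertible_iff M).mp hM y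
  refine ⟨W ⊓ U, tmul (res G inf_le_left e) (res M inf_le_right m), ⟨hyW, hyU⟩,
    (he.res _).tmul (hm.res _), fun V hV c hc => ?_⟩
  obtain ⟨e', he'⟩ := h V (hV.trans inf_le_left) c hc
  refine ⟨tmul e' (res M (hV.trans inf_le_right) m), ?_⟩
  have h1 := tw_map_tmul j e' (res M (hV.trans inf_le_right) m)
  refine h1.trans ?_
  rw [he', smul_tmul]
  congr 1
  refine Eq.trans ?_ (res_tmul hV _ _).symm
  rw [res_res, res_res]

theorem PMax.exists_lift {P : X} {K G : X.Modules} {j : K ⟶ G} (hj : PMax P j) [Mono j]
    (t : Coh.structureModule X ⟶ G) (ht : P ∉ CohB1.genLocus G t) :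
    ∃ t' : Coh.structureModule X ⟶ K, t' ≫ j = t := by
  refine Ega1.SubSheaf.exists_lift t j (Fga.GenIso.exists_preimage_of_gen t j fun y => ?_)
  obtain ⟨W, e, hyW, he, h⟩ := hj y
  obtain ⟨c, hc⟩ := he.exists_eq (sec t W)
  have h1 := genLocus_inf_eq t he hc
  obtain ⟨e', he'⟩ := h W le_rfl c (by rw [← h1]; exact fun hP => ht hP.1)
  refine ⟨W, one W, e', hyW, isGen_one W, ?_⟩
  rw [he', res_refl]
  exact hc

theorem mono_tensor {K G : X.Modules} (j : K ⟶ G) [Mono j] {M : X.Modules}
    (hM : PicF.IsInvertible M) : Mono ((tw M).map j) := by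
  let S : ShortComplex X.Modules := ShortComplex.mk j (cokernel.π j) (cokernel.condition j)
  have hS : S.ShortExact :=
    { exact := ShortComplex.exact_of_g_is_cokernel _ (cokernelIsCokernel j)
      mono_f := inferInstance
      epi_g := by dsimp [S]; infer_instance }
  exact (shortExact_tw hM hS).mono_f

/-- The support of the residue module of a closed point. -/
theorem support_coker_van (P : X) (hP : IsClosed ({P} : Set X)) :
    CohB1.support (cokernel (van {P}).ι) = {P} := by
  ext x
  simp only [Set.mem_singleton_iff]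
  constructor
  · intro hx
    by_contra hne
    let Pc : X.Opens := ⟨{P}ᶜ, hP.isOpen_compl⟩
    have h1 : IsIso ((CohqB.DevSupport.stalkF X x).map (van {P}).ι) := by
      refine Fga.RegSec.isIso_stalk_of_bijective _ Pc (fun V hV => ?_) (show x ∈ Pc from hne)
      refine ⟨(van {P}).ι_app_injective V, fun a => ⟨(van {P}).sec a ?_, rfl⟩⟩
      rintro z rfl hz
      exact hV (X.basicOpen_le _ hz) rfl
    exact Fga.RegSec.not_mem_support_cokernel _ inferInstance hx
  · rintro rfl
    by_contra hx
    have h1 := Fga.RegSec.epi_of_not_mem_support_cokernel _ hx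
    have hsurj : Function.Surjective ((CohqB.DevSupport.stalkF X x).map (van {x}).ι) :=
      (AddCommGrpCat.epi_iff_surjective _).mp h1
    obtain ⟨t, ht⟩ := hsurj ((Coh.structureModule X).presheaf.germ ⊤ x trivial (one ⊤))
    obtain ⟨V, hxV, f, rfl⟩ := TopCat.Presheaf.exists_germ_eq (van {x}).toModules.presheaf t
    rw [Fga.RegSec.stalkF_map_germ] at ht
    obtain ⟨W, hxW, i, i', hW⟩ := (Coh.structureModule X).presheaf.germ_eq x _ _ _ _ ht
    have h2 : res (Coh.structureModule X) i.le ((van {x}).ι.app V f) = one W := by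
      have : res (Coh.structureModule X) i.le ((van {x}).ι.app V f) = res (Coh.structureModule X) i'.le (one ⊤) := hW
      rw [this, res_one]
    have h3 : one W ∈ (van {x}).obj W := by
      rw [← h2]
      exact (van {x}).map_mem i.le ((van {x}).ι_app_mem f)
    refine h3 x rfl ?_
    change x ∈ X.basicOpen (1 : Γ(X, W))
    rw [X.basicOpen_of_isUnit isUnit_one]
    exact hxW

end Groth.Agent.Pic13.H946.PMax
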