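import Groth.Agent.Pic13.H946.LES
import Groth.Agent.Pic13.H946.PMax
import Groth.Agent.Fga.HodgeSec
import Groth.Agent.Fga.PicMon
import Groth.Agent.Fga.PosZero
import Groth.Agent.CohqB.SerTw
import Groth.Agent.S0046

/-!
# Sections of powers of an invertible module on an integral proper scheme, by torsion vanishing

`X` integral and proper over a field `k`, `D` invertible.  Suppose that for every coherent `F` which is zero at the
generic point the higher cohomology of `F ⊗ D^n` vanishes for large `n` (`Van D F`).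
* `exists_section_at`: if some `D^{a+1}` has a nonzero section, then for every closed point `P` some
  `D^{n+1}` has a section generating at `P`.
-/

set_option autoImplicit false
universe u
open CategoryTheory CategoryTheory.Limits AlgebraicGeometry Opposite TopologicalSpace

namespace Groth.Agent.Pic13.H946.Core

open Groth.Agent.Ega2 Groth.Agent.Fdesc.LocGen Groth.Agent.Fga.RegSec Groth.Agent.VarietyA.EulerLES
open Groth.Agent.Fga.PicMon Groth.Agent.CohqB.SerTw Groth.Agent.CohqB.VanSub
open Groth.Agent.Pic13.H946.LES Groth.Agent.Pic13.H946.PMax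

variable {X : Scheme.{u}}

/-- The higher cohomology of `F ⊗ D^n` vanishes for all large `n`. -/
def Van (D F : X.Modules) : Prop :=
  ∃ n₀ : ℕ, ∀ n : ℕ, n₀ ≤ n → ∀ q : ℕ, 0 < q →
    Subsingleton (Coh.HH X (CohB1.tensorMod F (CohB1.tensorPow D n)) q)

/-- The short exact sequence of a monomorphism and its cokernel. -/
noncomputable def cokSeq {A B : X.Modules} (φ : A ⟶ B) : ShortComplex X.Modules :=
  ShortComplex.mk φ (cokernel.π φ) (cokernel.condition φ)

theorem cokSeq_shortExact {A B : X.Modules} (φ : A ⟶ B) [Mono φ] : (cokSeq φ).ShortExact :=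
  { exact := ShortComplex.exact_of_g_is_cokernel _ (cokernelIsCokernel φ)
    mono_f := inferInstanceAs (Mono φ)
    epi_g := inferInstanceAs (Epi (cokernel.π φ)) }

theorem exists_eq_of_antitone (u : ℕ → ℕ) (j₀ : ℕ) (h : ∀ j, j₀ ≤ j → u (j + 1) ≤ u j) :
    ∃ j, j₀ ≤ j ∧ u (j + 1) = u j := by
  by_contra hcon
  push Not at hcon
  have key : ∀ i, u (j₀ + i) + i ≤ u j₀ := by
    intro i
    induction i with
    | zero => simp
    | succ i ih =>
      have h1 := h (j₀ + i) (by omega)
      have h2 := hcon (j₀ + i) (by omega)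
      have h3 : u (j₀ + i + 1) < u (j₀ + i) := lt_of_le_of_ne h1 h2
      change u (j₀ + i + 1) + (i + 1) ≤ u j₀
      omega
  have := key (u j₀ + 1)
  omega

theorem mem_genLocus_comp {M N : X.Modules} (s : Coh.structureModule X ⟶ M) (e : M ⟶ N) [IsIso e] {x : X}
    (hx : x ∈ CohB1.genLocus M s) : x ∈ CohB1.genLocus N (s ≫ e) := by
  rw [mem_genLocus_iff] at hx ⊢
  obtain ⟨U, hU, hgen⟩ := hx
  exact ⟨U, hU, by rw [sec_comp]; exact hgen.app e⟩

/-- A section generating at `x` is an isomorphism on stalks at `x`. -/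
theorem isIso_stalk_sec {N : X.Modules} (s : Coh.structureModule X ⟶ N) {x : X}
    (hx : x ∈ CohB1.genLocus N s) : IsIso ((CohqB.DevSupport.stalkF X x).map s) := by
  refine isIso_stalk_of_bijective s (CohB1.genLocus N s) (fun V hV => ?_) hx
  have h := isGen_sec_genLocus s
  have h1 : IsGen (sec s V) := by
    have := h.res hV
    rwa [res_sec] at this
  have h2 : (s.app V : Γ(Coh.structureModule X, V) → Γ(N, V)) = fun a => (ofFun.symm a : Γ(X, V)) • sec s V :=
    funext fun a => app_ofFun s (ofFun.symm a)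
  rw [h2]
  exact h1.bijective

/-- The support does not shrink when twisting by an invertible module. -/
theorem mem_support_tw {F N : X.Modules} (hN : PicF.IsInvertible N) {x : X} (hx : x ∈ CohB1.support F) :
    x ∈ CohB1.support (CohB1.tensorMod F N) := by
  intro hsub
  apply hx
  refine subsingleton_of_forall_eq 0 fun p => ?_
  obtain ⟨V, hxV, f, rfl⟩ := TopCat.Presheaf.exists_germ_eq F.presheaf p
  obtain ⟨U, e, hxU, he⟩ := (isInvertible_iff N).mp hN x
  have h0 : (CohB1.tensorMod F N).presheaf.germ (V ⊓ U) x ⟨hxV, hxU⟩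
      (tmul (res F inf_le_left f) (res N inf_le_right e)) = 0 := Subsingleton.elim _ _
  obtain ⟨W, hW, hxW, h1⟩ := exists_res_eq_zero _ _ _ h0
  rw [res_tmul, res_res, res_res] at h1
  have h2 := TensGen.tmul_gen_eq_zero (he.res (hW.trans inf_le_right)) h1
  rw [← germ_res' F (hW.trans inf_le_left : W ≤ V) hxW f, h2, map_zero]

theorem support_tw {F N : X.Modules} (hN : PicF.IsInvertible N) :
    CohB1.support (CohB1.tensorMod F N) = CohB1.support F :=
  Set.Subset.antisymm (Fga.TwistCoh.support_tensor_subset hN) fun _ hx => mem_support_tw hN hx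

variable (k : Type u) [Field k] [X.Over (Spec (CommRingCat.of k))]

theorem finrank_congr {A B : X.Modules} (h : mc A = mc B) (q : ℕ) :
    Module.finrank k (Coh.HH X A q) = Module.finrank k (Coh.HH X B q) := by
  obtain ⟨e⟩ := (mc_eq_iff _ _).mp h
  exact (hmapEquiv k X e q).finrank_eq

/-- Twisting a monomorphism with torsion cokernel by high powers of `D`. -/
theorem step {D A B : X.Modules} (hD : PicF.IsInvertible D) (φ : A ⟶ B) [Mono φ]
    (hC : Van D (cokernel φ)) :
    ∃ n₀ : ℕ, ∀ n, n₀ ≤ n → Function.Surjective (mapA k ((tw (CohB1.tensorPow D n)).map φ) 1) ∧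
      ∀ q, 2 ≤ q → Module.finrank k (Coh.HH X (CohB1.tensorMod A (CohB1.tensorPow D n)) q) =
        Module.finrank k (Coh.HH X (CohB1.tensorMod B (CohB1.tensorPow D n)) q) := by
  obtain ⟨n₀, h⟩ := hC
  refine ⟨n₀, fun n hn => ?_⟩
  have hS : ((cokSeq φ).map (tw (CohB1.tensorPow D n))).ShortExact :=
    shortExact_tw (isInvertible_tensorPow hD n) (cokSeq_shortExact φ)
  refine ⟨surj_of_van k _ hS 1 (h n hn 1 one_pos), fun q hq => ?_⟩
  obtain ⟨q, rfl⟩ : ∃ q', q = q' + 1 := ⟨q - 1, by omega⟩
  exact finrank_eq_of_van k _ hS q (h n hn q (by omega)) (h n hn (q + 1) (by omega))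

variable [IsProper (X ↘ Spec (CommRingCat.of k))]

include k in
/-- The key step: from one nonzero section of a power to sections generating at closed points. -/
theorem exists_section_at' [IsIntegral X] (D : X.Modules) (hD : PicF.IsInvertible D)
    (hvan : ∀ F : X.Modules, Coh.IsCoh F → genericPoint X ∉ CohB1.support F → Van D F)
    (N : X.Modules) (hN : PicF.IsInvertible N) (a : ℕ) (hmcN : mc N = mc D ^ (a + 1))
    (s : Coh.structureModule X ⟶ N) (hs : s ≠ 0)
    (P : X) (hP : IsClosed ({P} : Set X)) (hPs : P ∉ CohB1.genLocus N s) :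
    ∃ (n : ℕ) (t : Coh.structureModule X ⟶ CohB1.tensorPow D (n + 1)), P ∈ CohB1.genLocus _ t := by
  have hNoeth : IsNoetherian X := VarietyA.TwistExist.isNoetherian k X
  have hη : genericPoint X ∈ CohB1.genLocus N s :=
    (genericPoint_spec X).mem_open_set_iff (CohB1.genLocus N s).isOpen |>.mpr
      (by simpa using VarietyA.TwistExist.genLocus_nonempty hN s hs)
  have hO : Coh.IsCoh (Coh.structureModule X) := Fga.HodgeSec.isCoh_of_isInvertible isInvertible_structureModule
  let ι := (van {P}).ι
  have hI : Coh.IsCoh (van {P}).toModules := S0046.result X _ _ ι hO (isQCoh_van {P})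
  let κ : X.Modules := cokernel ι
  have hκ : Coh.IsCoh κ := isCoh_cokernel ι hI.1 hO
  let jN : (tw N).obj (van {P}).toModules ⟶ (tw N).obj (Coh.structureModule X) := (tw N).map ι
  have hjN : PMax P jN := (pmax_van P).tensor hN
  have hmonoj : Mono jN := mono_tensor ι hN
  let s₁ : Coh.structureModule X ⟶ (tw N).obj (Coh.structureModule X) := s ≫ (Tens.lunit N).inv
  have hPs₁ : P ∉ CohB1.genLocus _ s₁ := by
    intro h
    apply hPs
    have h1 := mem_genLocus_comp s₁ (Tens.lunit N).hom h
    have h2 : s₁ ≫ (Tens.lunit N).hom = s := by simp [s₁]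
    rwa [h2] at h1
  have hηs₁ : genericPoint X ∈ CohB1.genLocus _ s₁ := mem_genLocus_comp s _ hη
  obtain ⟨s', hs'⟩ := hjN.exists_lift s₁ hPs₁
  have hmonos : Mono s := CurvesB.RankOne.mono_of_ne_zero (CurvesB.InvEmb.locEmb_of_isInvertible hN) s hs
  have hmonos₁ : Mono s₁ := mono_comp s (Tens.lunit N).inv
  have hmonos' : Mono s' := by
    have : Mono (s' ≫ jN) := by rw [hs']; exact hmonos₁
    exact mono_of_mono s' jN
  -- the cokernels are torsion
  have hiso₁ : IsIso ((CohqB.DevSupport.stalkF X (genericPoint X)).map s₁) := isIso_stalk_sec s₁ hηs₁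
  have hIN : Coh.IsCoh ((tw N).obj (van {P}).toModules) := Fga.TwistCoh.isCoh_tensor hI hN
  have hON : Coh.IsCoh ((tw N).obj (Coh.structureModule X)) := Fga.TwistCoh.isCoh_tensor hO hN
  have hc₁ : genericPoint X ∉ CohB1.support (cokernel s₁) := not_mem_support_cokernel s₁ inferInstance
  have hc' : genericPoint X ∉ CohB1.support (cokernel s') := by
    refine not_mem_support_cokernel s' ?_
    have hm : Mono ((CohqB.DevSupport.stalkF X (genericPoint X)).map jN) := inferInstance
    have hcomp : (CohqB.DevSupport.stalkF X (genericPoint X)).map s' ≫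
        (CohqB.DevSupport.stalkF X (genericPoint X)).map jN =
        (CohqB.DevSupport.stalkF X (genericPoint X)).map s₁ := by
      rw [← Functor.map_comp, hs']
    have hep : IsSplitEpi ((CohqB.DevSupport.stalkF X (genericPoint X)).map jN) := by
      refine ⟨⟨inv ((CohqB.DevSupport.stalkF X (genericPoint X)).map s₁) ≫
        (CohqB.DevSupport.stalkF X (genericPoint X)).map s', ?_⟩⟩
      rw [Category.assoc, hcomp, IsIso.inv_hom_id]
    have hj : IsIso ((CohqB.DevSupport.stalkF X (genericPoint X)).map jN) := isIso_of_mono_of_isSplitEpi _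
    have : IsIso ((CohqB.DevSupport.stalkF X (genericPoint X)).map s') := by
      have : IsIso ((CohqB.DevSupport.stalkF X (genericPoint X)).map s' ≫
        (CohqB.DevSupport.stalkF X (genericPoint X)).map jN) := by rw [hcomp]; exact hiso₁
      exact IsIso.of_isIso_comp_right _ ((CohqB.DevSupport.stalkF X (genericPoint X)).map jN)
    infer_instance
  obtain ⟨n₁, h₁⟩ := step k hD s₁ (hvan _ (isCoh_cokernel s₁ hO.1 hON) hc₁)
  obtain ⟨n₂, h₂⟩ := step k hD s' (hvan _ (isCoh_cokernel s' hO.1 hIN) hc')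
  -- dimension count
  let u : ℕ → ℕ := fun j => Module.finrank k (Coh.HH X (CohB1.tensorPow D ((a + 1) * j)) 1)
  have hfin : ∀ (F : X.Modules) (_ : Coh.IsCoh F) (q : ℕ), Module.Finite k (Coh.HH X F q) :=
    fun F hF q => S0002.result k X F hF q
  have mc0 : ∀ n, mc ((tw (CohB1.tensorPow D n)).obj (Coh.structureModule X)) = mc (CohB1.tensorPow D n) := by
    intro n
    rw [tw_obj, mc_tensor, mc_one, one_mul]
  have mc1 : ∀ n, mc ((tw (CohB1.tensorPow D n)).obj ((tw N).obj (Coh.structureModule X))) =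
      mc (CohB1.tensorPow D (n + (a + 1))) := by
    intro n
    rw [tw_obj, tw_obj, mc_tensor, mc_tensor, mc_one, one_mul, hmcN, mc_tensorPow, mc_tensorPow,
      ← pow_add, add_comm]
  have hcohO : ∀ n, Coh.IsCoh ((tw (CohB1.tensorPow D n)).obj (Coh.structureModule X)) := fun n =>
    Fga.TwistCoh.isCoh_tensor hO (isInvertible_tensorPow hD n)
  have hcohN : ∀ n, Coh.IsCoh ((tw (CohB1.tensorPow D n)).obj ((tw N).obj (Coh.structureModule X))) := fun n =>
    Fga.TwistCoh.isCoh_tensor hON (isInvertible_tensorPow hD n)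
  have hle : ∀ j, max n₁ n₂ ≤ j → u (j + 1) ≤ u j := by
    intro j hj
    have hn : n₁ ≤ (a + 1) * j := le_trans (le_trans (le_max_left _ _) hj) (Nat.le_mul_of_pos_left j (Nat.succ_pos a))
    have h3 := (h₁ ((a + 1) * j) hn).1
    have hf := hfin _ (hcohO ((a + 1) * j)) 1
    have h4 := LinearMap.finrank_le_finrank_of_surjective h3
    rw [finrank_congr k (mc0 ((a + 1) * j)) 1, finrank_congr k (mc1 ((a + 1) * j)) 1] at h4
    have h5 : (a + 1) * (j + 1) = (a + 1) * j + (a + 1) := by ring
    change Module.finrank k (Coh.HH X (CohB1.tensorPow D ((a + 1) * (j + 1))) 1) ≤ _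
    rw [h5]
    exact h4
  obtain ⟨j, hj, hu⟩ := exists_eq_of_antitone u (max n₁ n₂) hle
  set m := (a + 1) * j with hm
  have hn₁ : n₁ ≤ m := le_trans (le_trans (le_max_left _ _) hj) (Nat.le_mul_of_pos_left j (Nat.succ_pos a))
  have hn₂ : n₂ ≤ m := le_trans (le_trans (le_max_right _ _) hj) (Nat.le_mul_of_pos_left j (Nat.succ_pos a))
  have hM : PicF.IsInvertible (CohB1.tensorPow D m) := isInvertible_tensorPow hD m
  have hinj₁ : Function.Injective (mapA k ((tw (CohB1.tensorPow D m)).map s₁) 1) := by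
    have hf1 := hfin _ (hcohO m) 1
    have hf2 := hfin _ (hcohN m) 1
    rw [LinearMap.injective_iff_surjective_of_finrank_eq_finrank]
    · exact (h₁ m hn₁).1
    · rw [finrank_congr k (mc0 m) 1, finrank_congr k (mc1 m) 1]
      have h5 : (a + 1) * (j + 1) = m + (a + 1) := by rw [hm]; ring
      change Module.finrank k (Coh.HH X (CohB1.tensorPow D ((a + 1) * (j + 1))) 1) = _ at hu
      rw [h5] at hu
      exact hu.symm
  have hinj : Function.Injective (mapA k ((tw (CohB1.tensorPow D m)).map jN) 1) := by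
    have hc : (tw (CohB1.tensorPow D m)).map s₁ =
        (tw (CohB1.tensorPow D m)).map s' ≫ (tw (CohB1.tensorPow D m)).map jN := by
      rw [← Functor.map_comp, hs']
    rw [hc, mapA_comp] at hinj₁
    have hsurj := (h₂ m hn₂).1
    intro x y hxy
    obtain ⟨x, rfl⟩ := hsurj x
    obtain ⟨y, rfl⟩ := hsurj y
    exact congrArg _ (hinj₁ hxy)
  -- the sequence
  let S : ShortComplex X.Modules := ((cokSeq ι).map (tw N)).map (tw (CohB1.tensorPow D m))
  have hS : S.ShortExact := shortExact_tw hM (shortExact_tw hN (cokSeq_shortExact ι))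
  have hf0 : Module.Finite k (Coh.HH X S.X₂ 0) := hfin _ (hcohN m) 0
  have hrk := finrank_zero_eq k S hS hinj
  have hsupp : CohB1.support S.X₃ = {P} := by
    change CohB1.support (CohB1.tensorMod (CohB1.tensorMod κ N) (CohB1.tensorPow D m)) = {P}
    rw [support_tw hM, support_tw hN]
    exact support_coker_van P hP
  have hpos : 0 < Module.finrank k (Coh.HH X S.X₃ 0) := by
    have h3 : Coh.IsCoh S.X₃ := Fga.TwistCoh.isCoh_tensor (Fga.TwistCoh.isCoh_tensor hκ hN) hM
    have h4 := Fga.PosZero.euler_pos k X 0 S.X₃ h3 (by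
      rw [hsupp]
      have hss : DiscreteTopology ({P} : Set X) := Subsingleton.discreteTopology
      have hne : Nonempty ({P} : Set X) := ⟨⟨P, rfl⟩⟩
      exact le_antisymm (topologicalKrullDim_zero_of_discreteTopology _)
        (Fga.IntNum0.topologicalKrullDim_nonneg _))
    unfold FGA.eulerCharLE at h4
    simpa using h4
  by_contra hcon
  push Not at hcon
  have hPG : ∀ t : Coh.structureModule X ⟶ S.X₂, P ∉ CohB1.genLocus _ t := by
    intro t ht
    obtain ⟨e⟩ := (mc_eq_iff _ _).mp (mc1 m)
    have h5 := mem_genLocus_comp t e.hom ht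
    exact hcon (m + a) (t ≫ e.hom) h5
  have hPM : PMax P S.f := hjN.tensor hM
  have : Mono S.f := hS.mono_f
  have hsurj0 : Function.Surjective (mapA k S.f 0) := by
    intro x
    obtain ⟨t', ht'⟩ := hPM.exists_lift (homOf (CurvesB.HZero.equivAdd S.X₂ x)) (hPG _)
    refine ⟨(CurvesB.HZero.equivAdd S.X₁).symm (sec t' ⊤), ?_⟩
    apply (CurvesB.HZero.equivAdd S.X₂).injective
    have h6 := CurvesB.HZero.equivAdd_map S.f ((CurvesB.HZero.equivAdd S.X₁).symm (sec t' ⊤))
    refine h6.trans ?_
    rw [AddEquiv.apply_symm_apply, ← sec_comp, ht', sec_homOf, res_refl]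
  have hf1 : Module.Finite k (Coh.HH X S.X₁ 0) :=
    hfin _ (Fga.TwistCoh.isCoh_tensor hIN hM) 0
  have h7 := LinearMap.finrank_le_finrank_of_surjective hsurj0
  omega

include k in
/-- From one nonzero section of a power to sections generating at closed points. -/
theorem exists_section_at [IsIntegral X] (D : X.Modules) (hD : PicF.IsInvertible D)
    (hvan : ∀ F : X.Modules, Coh.IsCoh F → genericPoint X ∉ CohB1.support F → Van D F)
    (a : ℕ) (s : Coh.structureModule X ⟶ CohB1.tensorPow D (a + 1)) (hs : s ≠ 0)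
    (P : X) (hP : IsClosed ({P} : Set X)) :
    ∃ (n : ℕ) (t : Coh.structureModule X ⟶ CohB1.tensorPow D (n + 1)), P ∈ CohB1.genLocus _ t := by
  by_cases hPs : P ∈ CohB1.genLocus _ s
  · exact ⟨a, s, hPs⟩
  · exact exists_section_at' k D hD hvan _ (isInvertible_tensorPow hD (a + 1)) a (mc_tensorPow D (a + 1)) s hs P hP hPs

end Groth.Agent.Pic13.H946.Core
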