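import Groth.Agent.Pic13.H946.Main
import Groth.Agent.Ega2.H287.FinGenFree
import Groth.Agent.Fga.HShift
import Groth.Agent.Fga.EulerLEAdd
import Groth.Agent.PerfA.CohSerre
import Groth.Agent.S2325
import Groth.Agent.S1524
import Groth.Prelude.Def_Pic13

/-!
# Good modules: definitions and behaviour in short exact sequences

For `X` proper over a field `k`, `H` invertible and `F` an `O_X`-module:
* `VAN k X H F`: there is `p₀` with `H^i(X, F ⊗ N ⊗ H^p) = 0` for all `p ≥ p₀`, `i ≥ 1` and all numerically trivial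
  invertible `N`;
* `CHI k X F`: `χ(F ⊗ N) = χ(F)` for all numerically trivial invertible `N`;
* `BH k X F`: `dim H^0(X, F ⊗ N)` is bounded for `N` numerically trivial invertible;
* `Good`: the three together.

The devissage theorem `core_of_integral` is in `Groth.Agent.Pic13.H946.CoreDev`.
-/

set_option autoImplicit false
universe u
open CategoryTheory CategoryTheory.Limits AlgebraicGeometry Opposite TopologicalSpace

namespace Groth.Agent.Pic13.H946.CoreGood

open Groth.Agent.Ega2 Groth.Agent.Fdesc.LocGen Groth.Agent.Fga.PicMon Groth.Agent.CohqB.SerTw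
open Groth.Agent.VarietyA.EulerLES Groth.Agent.Pic13.H946.ChiTriv Groth.Agent.Pic13.H946.Core

section Def

variable (k : Type u) [Field k] (X : Scheme.{u}) [X.Over (Spec (CommRingCat.of k))]

/-- Uniform vanishing over the numerically trivial invertible modules. -/
def VAN (H F : X.Modules) : Prop :=
  ∃ p₀ : ℕ, ∀ N : X.Modules, PicF.IsInvertible N → Pic13.IsNumEquivZero k X N → ∀ p : ℕ, p₀ ≤ p → ∀ i : ℕ, 1 ≤ i →
    Subsingleton (Coh.HH X (CohB1.tensorMod (CohB1.tensorMod F N) (CohB1.tensorPow H p)) i)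

/-- Invariance of the Euler characteristic. -/
def CHI (F : X.Modules) : Prop :=
  ∀ N : X.Modules, PicF.IsInvertible N → Pic13.IsNumEquivZero k X N →
    Curv2.euler k X (CohB1.tensorMod F N) = Curv2.euler k X F

/-- Uniform bound for the number of sections. -/
def BH (F : X.Modules) : Prop :=
  ∃ B : ℕ, ∀ N : X.Modules, PicF.IsInvertible N → Pic13.IsNumEquivZero k X N →
    Module.finrank k (Coh.HH X (CohB1.tensorMod F N) 0) ≤ B

/-- The three properties together. -/
structure Good (H F : X.Modules) : Prop where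
  van : VAN k X H F
  chi : CHI k X F
  bh : BH k X F

/-- Uniform vanishing in degrees `≥ j`. -/
def VanGe (H F : X.Modules) (j : ℕ) : Prop :=
  ∃ p₀ : ℕ, ∀ N : X.Modules, PicF.IsInvertible N → Pic13.IsNumEquivZero k X N → ∀ p : ℕ, p₀ ≤ p → ∀ i : ℕ, j ≤ i →
    Subsingleton (Coh.HH X (CohB1.tensorMod F (CohB1.tensorMod N (CohB1.tensorPow H p))) i)

variable {X}

omit [X.Over (Spec (CommRingCat.of k))] in
theorem hh_congr {A B : X.Modules} (h : mc A = mc B) {q : ℕ} (hA : Subsingleton (Coh.HH X A q)) :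
    Subsingleton (Coh.HH X B q) := by
  obtain ⟨e⟩ := (mc_eq_iff _ _).mp h
  exact ((equivΓ e q).toEquiv.subsingleton_congr).mp hA

theorem van_iff (H F : X.Modules) : VAN k X H F ↔ VanGe k X H F 1 := by
  refine exists_congr fun p₀ => forall_congr' fun N => forall_congr' fun _ => forall_congr' fun _ =>
    forall_congr' fun p => forall_congr' fun _ => forall_congr' fun i => forall_congr' fun _ => ?_
  have h : mc (CohB1.tensorMod (CohB1.tensorMod F N) (CohB1.tensorPow H p)) =
      mc (CohB1.tensorMod F (CohB1.tensorMod N (CohB1.tensorPow H p))) := by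
    simp only [mc_tensor, mul_assoc]
  exact ⟨hh_congr h, hh_congr h.symm⟩

variable {k}

theorem VanGe.congr {H F G : X.Modules} {j : ℕ} (h : VanGe k X H F j) (hFG : mc F = mc G) : VanGe k X H G j := by
  obtain ⟨p₀, h⟩ := h
  refine ⟨p₀, fun N hN hn p hp i hi => ?_⟩
  exact hh_congr (by simp only [mc_tensor, hFG]) (h N hN hn p hp i hi)

theorem VanGe.mono {H F : X.Modules} {j j' : ℕ} (h : VanGe k X H F j) (hj : j ≤ j') : VanGe k X H F j' := by
  obtain ⟨p₀, h⟩ := h
  exact ⟨p₀, fun N hN hn p hp i hi => h N hN hn p hp i (hj.trans hi)⟩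

theorem VanGe.mid {H : X.Modules} (hH : PicF.IsInvertible H) {S : ShortComplex X.Modules} (hS : S.ShortExact) {j : ℕ}
    (h1 : VanGe k X H S.X₁ j) (h3 : VanGe k X H S.X₃ j) : VanGe k X H S.X₂ j := by
  obtain ⟨p₁, h1⟩ := h1
  obtain ⟨p₃, h3⟩ := h3
  refine ⟨max p₁ p₃, fun N hN hn p hp i hi => ?_⟩
  have hW : PicF.IsInvertible (CohB1.tensorMod N (CohB1.tensorPow H p)) :=
    isInvertible_tensorMod hN (isInvertible_tensorPow hH p)
  exact LES.subsingleton_mid k (S.map (tw _)) (shortExact_tw hW hS) i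
    (h1 N hN hn p (le_trans (le_max_left _ _) hp) i hi) (h3 N hN hn p (le_trans (le_max_right _ _) hp) i hi)

theorem VanGe.right {H : X.Modules} (hH : PicF.IsInvertible H) {S : ShortComplex X.Modules} (hS : S.ShortExact) {j : ℕ}
    (h2 : VanGe k X H S.X₂ j) (h1 : VanGe k X H S.X₁ (j + 1)) : VanGe k X H S.X₃ j := by
  obtain ⟨p₁, h1⟩ := h1
  obtain ⟨p₂, h2⟩ := h2
  refine ⟨max p₁ p₂, fun N hN hn p hp i hi => ?_⟩
  have hW : PicF.IsInvertible (CohB1.tensorMod N (CohB1.tensorPow H p)) :=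
    isInvertible_tensorMod hN (isInvertible_tensorPow hH p)
  have hS' := shortExact_tw hW hS
  have a2 := h2 N hN hn p (le_trans (le_max_right _ _) hp) i hi
  have a1 := h1 N hN hn p (le_trans (le_max_left _ _) hp) (i + 1) (by omega)
  refine subsingleton_of_forall_eq 0 fun y => ?_
  obtain ⟨x, rfl⟩ := (exactA₃ k (S.map (tw (CohB1.tensorMod N (CohB1.tensorPow H p)))) hS' i (i + 1) rfl y).mp
    (Subsingleton.elim (α := Coh.HH X (CohB1.tensorMod S.X₁ (CohB1.tensorMod N (CohB1.tensorPow H p))) (i + 1)) _ _)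
  have hx : x = 0 := Subsingleton.elim (α := Coh.HH X (CohB1.tensorMod S.X₂
    (CohB1.tensorMod N (CohB1.tensorPow H p))) i) x 0
  rw [hx, map_zero]
  rfl

/-- Shifting the twist. -/
theorem VanGe.of_twist {H F : X.Modules} {j m : ℕ}
    (h : VanGe k X H (CohB1.tensorMod F (CohB1.tensorPow H m)) j) : VanGe k X H F j := by
  obtain ⟨p₀, h⟩ := h
  refine ⟨p₀ + m, fun N hN hn p hp i hi => ?_⟩
  obtain ⟨q, rfl⟩ : ∃ q, p = q + m := ⟨p - m, by omega⟩
  refine hh_congr ?_ (h N hN hn q (by omega) i hi)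
  simp only [mc_tensor, mc_tensorPow, pow_add]
  rw [mul_assoc, mul_comm (mc H ^ m), mul_assoc]

theorem VanGe.freeMod {H : X.Modules} {j : ℕ} (h : VanGe k X H (Coh.structureModule X) j) (n : ℕ) :
    VanGe k X H (FlatMod.freeMod X n) j := by
  obtain ⟨p₀, h⟩ := h
  refine ⟨p₀, fun N hN hn p hp i hi => ?_⟩
  have := Fga.HShift.subsingleton_coproduct
    (fun _ : Fin n => CohB1.tensorMod (Coh.structureModule X) (CohB1.tensorMod N (CohB1.tensorPow H p))) i
    (fun _ => h N hN hn p hp i hi)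
  let e : (tw (CohB1.tensorMod N (CohB1.tensorPow H p))).obj (FlatMod.freeMod X n) ≅
      ∐ fun _ : Fin n => CohB1.tensorMod (Coh.structureModule X) (CohB1.tensorMod N (CohB1.tensorPow H p)) :=
    PreservesCoproduct.iso (tw _) _
  exact ((equivΓ e i).toEquiv.subsingleton_congr).mpr this

end Def

section Chi

variable {k : Type u} [Field k] {X : Scheme.{u}} [X.Over (Spec (CommRingCat.of k))]

theorem euler_congr' {A B : X.Modules} (h : mc A = mc B) : Curv2.euler k X A = Curv2.euler k X B := by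
  unfold Curv2.euler
  exact finsum_congr fun i => by rw [finrank_congr k h i]

theorem CHI.congr {F G : X.Modules} (h : CHI k X F) (hFG : mc F = mc G) : CHI k X G := by
  intro N hN hn
  rw [← euler_congr' hFG, ← h N hN hn]
  exact euler_congr' (by simp only [mc_tensor, hFG])

theorem BH.congr {F G : X.Modules} (h : BH k X F) (hFG : mc F = mc G) : BH k X G := by
  obtain ⟨B, h⟩ := h
  refine ⟨B, fun N hN hn => ?_⟩
  rw [← finrank_congr k (A := CohB1.tensorMod F N) (by simp only [mc_tensor, hFG])]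
  exact h N hN hn

variable [IsProper (X ↘ Spec (CommRingCat.of k))]

/-- Additivity of `χ(- ⊗ N) - χ(-)`. -/
theorem euler_tw_add {S : ShortComplex X.Modules} (hS : S.ShortExact) (h1 : Coh.IsCoh S.X₁) (h2 : Coh.IsCoh S.X₂)
    (h3 : Coh.IsCoh S.X₃) {N : X.Modules} (hN : PicF.IsInvertible N) :
    Curv2.euler k X (CohB1.tensorMod S.X₂ N) =
      Curv2.euler k X (CohB1.tensorMod S.X₁ N) + Curv2.euler k X (CohB1.tensorMod S.X₃ N) :=
  have := VarietyA.TwistExist.isNoetherian k X
  S1524.result k X (S.map (tw N)) (shortExact_tw hN hS) (Fga.TwistCoh.isCoh_tensor h1 hN)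
    (Fga.TwistCoh.isCoh_tensor h2 hN) (Fga.TwistCoh.isCoh_tensor h3 hN)

theorem CHI.mid {S : ShortComplex X.Modules} (hS : S.ShortExact) (h1 : Coh.IsCoh S.X₁) (h2 : Coh.IsCoh S.X₂)
    (h3 : Coh.IsCoh S.X₃) (g1 : CHI k X S.X₁) (g3 : CHI k X S.X₃) : CHI k X S.X₂ := by
  intro N hN hn
  rw [euler_tw_add hS h1 h2 h3 hN, S1524.result k X S hS h1 h2 h3, g1 N hN hn, g3 N hN hn]

theorem CHI.left {S : ShortComplex X.Modules} (hS : S.ShortExact) (h1 : Coh.IsCoh S.X₁) (h2 : Coh.IsCoh S.X₂)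
    (h3 : Coh.IsCoh S.X₃) (g2 : CHI k X S.X₂) (g3 : CHI k X S.X₃) : CHI k X S.X₁ := by
  intro N hN hn
  have e1 := euler_tw_add (k := k) hS h1 h2 h3 hN
  have e2 := S1524.result k X S hS h1 h2 h3
  rw [g2 N hN hn, g3 N hN hn] at e1
  linarith

theorem finite_hh {F : X.Modules} (hF : Coh.IsCoh F) (q : ℕ) : Module.Finite k (Coh.HH X F q) :=
  S0002.result k X F hF q

theorem BH.of_mono {F G : X.Modules} (φ : F ⟶ G) [Mono φ] (hG : Coh.IsCoh G) (h : BH k X G) : BH k X F := by
  have := VarietyA.TwistExist.isNoetherian k X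
  obtain ⟨B, h⟩ := h
  refine ⟨B, fun N hN hn => le_trans ?_ (h N hN hn)⟩
  have hfin : Module.Finite k (Coh.HH X (CohB1.tensorMod G N) 0) :=
    finite_hh (Fga.TwistCoh.isCoh_tensor hG hN) 0
  exact LinearMap.finrank_le_finrank_of_injective
    (injectiveA₀ k ((cokSeq φ).map (tw N)) (shortExact_tw hN (cokSeq_shortExact φ)))

theorem BH.mid {S : ShortComplex X.Modules} (hS : S.ShortExact) (h1 : Coh.IsCoh S.X₁) (h2 : Coh.IsCoh S.X₂)
    (h3 : Coh.IsCoh S.X₃) (g1 : BH k X S.X₁) (g3 : BH k X S.X₃) : BH k X S.X₂ := by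
  have := VarietyA.TwistExist.isNoetherian k X
  obtain ⟨B₁, g1⟩ := g1
  obtain ⟨B₃, g3⟩ := g3
  refine ⟨B₁ + B₃, fun N hN hn => ?_⟩
  have hS' := shortExact_tw hN hS
  have f1 : Module.Finite k (Coh.HH X (S.map (tw N)).X₁ 0) := finite_hh (Fga.TwistCoh.isCoh_tensor h1 hN) 0
  have f2 : Module.Finite k (Coh.HH X (S.map (tw N)).X₂ 0) := finite_hh (Fga.TwistCoh.isCoh_tensor h2 hN) 0
  have f3 : Module.Finite k (Coh.HH X (S.map (tw N)).X₃ 0) := finite_hh (Fga.TwistCoh.isCoh_tensor h3 hN) 0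
  have hr := LinearMap.finrank_range_add_finrank_ker (mapA k (S.map (tw N)).g 0)
  have hk : LinearMap.ker (mapA k (S.map (tw N)).g 0) = LinearMap.range (mapA k (S.map (tw N)).f 0) :=
    LinearMap.exact_iff.mp (exactA₂ k (S.map (tw N)) hS' 0)
  have hle1 : Module.finrank k (LinearMap.range (mapA k (S.map (tw N)).f 0)) ≤ B₁ :=
    (LinearMap.finrank_range_le _).trans (g1 N hN hn)
  have hle3 : Module.finrank k (LinearMap.range (mapA k (S.map (tw N)).g 0)) ≤ B₃ :=
    (Submodule.finrank_le _).trans (g3 N hN hn)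
  rw [hk] at hr
  change Module.finrank k (Coh.HH X (S.map (tw N)).X₂ 0) ≤ _
  omega

theorem Good.mid {H : X.Modules} (hH : PicF.IsInvertible H) {S : ShortComplex X.Modules} (hS : S.ShortExact)
    (h1 : Coh.IsCoh S.X₁) (h2 : Coh.IsCoh S.X₂) (h3 : Coh.IsCoh S.X₃) (g1 : Good k X H S.X₁)
    (g3 : Good k X H S.X₃) : Good k X H S.X₂ where
  van := (van_iff k _ _).mpr (((van_iff k _ _).mp g1.van).mid hH hS ((van_iff k _ _).mp g3.van))
  chi := g1.chi.mid hS h1 h2 h3 g3.chi
  bh := g1.bh.mid hS h1 h2 h3 g3.bh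

omit [IsProper (X ↘ Spec (CommRingCat.of k))] in
theorem Good.congr {H F G : X.Modules} (h : Good k X H F) (hFG : mc F = mc G) : Good k X H G where
  van := (van_iff k _ _).mpr (((van_iff k _ _).mp h.van).congr hFG)
  chi := h.chi.congr hFG
  bh := h.bh.congr hFG

omit [IsProper (X ↘ Spec (CommRingCat.of k))] in
theorem good_of_isZero {H F : X.Modules} (hF : IsZero F) : Good k X H F := by
  have hz : ∀ N : X.Modules, IsZero (CohB1.tensorMod F N) := fun N => (tw N).map_isZero hF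
  refine ⟨(van_iff k _ _).mpr ⟨0, fun N _ _ p _ i _ => Fga.IntNum0.HH_subsingleton_of_isZero (hz _) i⟩,
    fun N _ _ => ?_, ⟨0, fun N _ _ => ?_⟩⟩
  · exact euler_congr' ((mc_eq_iff _ _).mpr ⟨(hz N).iso hF⟩)
  · have := Fga.IntNum0.HH_subsingleton_of_isZero (hz N) 0
    rw [Module.finrank_zero_of_subsingleton]

end Chi

end Groth.Agent.Pic13.H946.CoreGood
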