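import Groth.Agent.Pic13.H946.Core

/-!
# Existence of sections of powers from Euler characteristics
-/

set_option autoImplicit false
universe u
open CategoryTheory CategoryTheory.Limits AlgebraicGeometry Opposite TopologicalSpace

namespace Groth.Agent.Pic13.H946.Exist

open Groth.Agent.Ega2 Groth.Agent.Fdesc.LocGen Groth.Agent.Fga.RegSec
open Groth.Agent.Fga.PicMon Groth.Agent.CohqB.SerTw Groth.Agent.Pic13.H946.Core

variable {X : Scheme.{u}}

theorem genericPoint_mem [IsIntegral X] {N : X.Modules} (hN : PicF.IsInvertible N)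
    (s : Coh.structureModule X ⟶ N) (hs : s ≠ 0) : genericPoint X ∈ CohB1.genLocus N s :=
  (genericPoint_spec X).mem_open_set_iff (CohB1.genLocus N s).isOpen |>.mpr
    (by simpa using VarietyA.TwistExist.genLocus_nonempty hN s hs)

theorem notMem_support_cokernel [IsIntegral X] {N : X.Modules} (hN : PicF.IsInvertible N)
    (s : Coh.structureModule X ⟶ N) (hs : s ≠ 0) : genericPoint X ∉ CohB1.support (cokernel s) := by
  have : IsIso ((CohqB.DevSupport.stalkF X (genericPoint X)).map s) := isIso_stalk_sec s (genericPoint_mem hN s hs)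
  exact not_mem_support_cokernel s inferInstance

variable (k : Type u) [Field k] [X.Over (Spec (CommRingCat.of k))]
  [IsProper (X ↘ Spec (CommRingCat.of k))]

/-- `h^q(D^n)`, `q ≥ 2`, is eventually constant, so `χ(D^n) ≤ h^0(D^n) + C`. -/
theorem exists_bound [IsIntegral X] (d : ℕ) (D G : X.Modules) (hD : PicF.IsInvertible D)
    (hG : PicF.IsInvertible G) (α : Coh.structureModule X ⟶ CohB1.tensorMod G D) (hα : α ≠ 0)
    (β : Coh.structureModule X ⟶ G) (hβ : β ≠ 0)
    (hvan : ∀ F : X.Modules, Coh.IsCoh F → genericPoint X ∉ CohB1.support F → Van D F) :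
    ∃ (C : ℤ) (n₀ : ℕ), ∀ n, n₀ ≤ n → FGA.eulerCharLE k X (CohB1.tensorPow D n) d ≤
      (Module.finrank k (Coh.HH X (CohB1.tensorPow D n) 0) : ℤ) + C := by
  have hO : Coh.IsCoh (Coh.structureModule X) := Fga.HodgeSec.isCoh_of_isInvertible isInvertible_structureModule
  have hGD := isInvertible_tensorMod hG hD
  have hGDc : Coh.IsCoh (CohB1.tensorMod G D) := Fga.HodgeSec.isCoh_of_isInvertible hGD
  have hGc : Coh.IsCoh G := Fga.HodgeSec.isCoh_of_isInvertible hG
  have hmα : Mono α := CurvesB.RankOne.mono_of_ne_zero (CurvesB.InvEmb.locEmb_of_isInvertible hGD) α hα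
  have hmβ : Mono β := CurvesB.RankOne.mono_of_ne_zero (CurvesB.InvEmb.locEmb_of_isInvertible hG) β hβ
  obtain ⟨n₁, h₁⟩ := step k hD α (hvan _ (isCoh_cokernel α hO.1 hGDc) (notMem_support_cokernel hGD α hα))
  obtain ⟨n₂, h₂⟩ := step k hD β (hvan _ (isCoh_cokernel β hO.1 hGc) (notMem_support_cokernel hG β hβ))
  have mc0 : ∀ n, mc (CohB1.tensorMod (Coh.structureModule X) (CohB1.tensorPow D n)) = mc (CohB1.tensorPow D n) := by
    intro n
    rw [mc_tensor, mc_one, one_mul]
  have mc1 : ∀ n, mc (CohB1.tensorMod (CohB1.tensorMod G D) (CohB1.tensorPow D n)) =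
      mc (CohB1.tensorMod G (CohB1.tensorPow D (n + 1))) := by
    intro n
    rw [mc_tensor, mc_tensor, mc_tensor, mc_tensorPow, mc_tensorPow, pow_succ', mul_assoc]
  have hconst : ∀ i n, max n₁ n₂ + i = n → ∀ q, 2 ≤ q → Module.finrank k (Coh.HH X (CohB1.tensorPow D n) q) =
      Module.finrank k (Coh.HH X (CohB1.tensorPow D (max n₁ n₂)) q) := by
    intro i
    induction i with
    | zero => rintro n rfl q _; rfl
    | succ i ih =>
      rintro n rfl q hq
      rw [← ih _ rfl q hq]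
      have h3 := (h₁ (max n₁ n₂ + i) (le_trans (le_max_left _ _) (Nat.le_add_right _ _))).2 q hq
      have h4 := (h₂ (max n₁ n₂ + (i + 1)) (le_trans (le_max_right _ _) (Nat.le_add_right _ _))).2 q hq
      rw [finrank_congr k (mc0 _) q] at h3 h4
      rw [finrank_congr k (mc1 _) q] at h3
      rw [h3, h4]
      rfl
  refine ⟨∑ q ∈ Finset.range (d + 1),
    (Module.finrank k (Coh.HH X (CohB1.tensorPow D (max n₁ n₂)) q) : ℤ), max n₁ n₂, fun n hn => ?_⟩
  unfold FGA.eulerCharLE
  have key : ∀ q ∈ Finset.range (d + 1),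
      (-1 : ℤ) ^ q * (Module.finrank k (Coh.HH X (CohB1.tensorPow D n) q) : ℤ) ≤
      (if q = 0 then (Module.finrank k (Coh.HH X (CohB1.tensorPow D n) 0) : ℤ) else 0) +
        (Module.finrank k (Coh.HH X (CohB1.tensorPow D (max n₁ n₂)) q) : ℤ) := by
    intro q _
    rcases Nat.lt_or_ge q 2 with hq | hq
    · interval_cases q
      · simp
      · simp only [pow_one, one_ne_zero, if_false, zero_add]
        have : (0 : ℤ) ≤ (Module.finrank k (Coh.HH X (CohB1.tensorPow D n) 1) : ℤ) := by positivity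
        have : (0 : ℤ) ≤ (Module.finrank k (Coh.HH X (CohB1.tensorPow D (max n₁ n₂)) 1) : ℤ) := by positivity
        linarith
    · have hq0 : q ≠ 0 := by omega
      rw [if_neg hq0, zero_add, hconst (n - max n₁ n₂) n (by omega) q hq]
      have h5 : (0 : ℤ) ≤ (Module.finrank k (Coh.HH X (CohB1.tensorPow D (max n₁ n₂)) q) : ℤ) := by positivity
      rcases neg_one_pow_eq_or ℤ q with h | h
      · rw [h, one_mul]
      · rw [h]
        linarith
  refine (Finset.sum_le_sum key).trans (le_of_eq ?_)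
  rw [Finset.sum_add_distrib, Finset.sum_ite_eq' (Finset.range (d + 1)) 0
    (fun _ => (Module.finrank k (Coh.HH X (CohB1.tensorPow D n) 0) : ℤ)), if_pos (Finset.mem_range.mpr (Nat.succ_pos d))]

/-- A power with a nonzero section. -/
theorem exists_section_pow [IsIntegral X] (d : ℕ) (D G : X.Modules) (hD : PicF.IsInvertible D)
    (hG : PicF.IsInvertible G) (α : Coh.structureModule X ⟶ CohB1.tensorMod G D) (hα : α ≠ 0)
    (β : Coh.structureModule X ⟶ G) (hβ : β ≠ 0)
    (hvan : ∀ F : X.Modules, Coh.IsCoh F → genericPoint X ∉ CohB1.support F → Van D F)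
    (hχ : ∀ (C : ℤ) (n₀ : ℕ), ∃ n, n₀ ≤ n ∧ C < FGA.eulerCharLE k X (CohB1.tensorPow D n) d) :
    ∃ (a : ℕ) (s : Coh.structureModule X ⟶ CohB1.tensorPow D (a + 1)), s ≠ 0 := by
  obtain ⟨C, n₀, h⟩ := exists_bound k d D G hD hG α hα β hβ hvan
  obtain ⟨n, hn, hC⟩ := hχ C (max n₀ 1)
  obtain ⟨a, rfl⟩ : ∃ a, n = a + 1 := ⟨n - 1, by omega⟩
  have h1 := h (a + 1) (le_trans (le_max_left _ _) hn)
  obtain ⟨s, hs⟩ := Fga.HodgeSec.exists_section k (L := CohB1.tensorPow D (a + 1)) (by
    have : (0 : ℤ) < (Module.finrank k (Coh.HH X (CohB1.tensorPow D (a + 1)) 0) : ℤ) := by linarith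
    exact_mod_cast this)
  exact ⟨a, s, hs⟩

end Groth.Agent.Pic13.H946.Exist
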