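import Groth.Agent.Pic13.H946.Core
import Groth.Agent.Fga.HypSec
import Groth.Agent.Fga.EulerLEAdd
import Groth.Agent.S0051
import Groth.Agent.S2325

/-!
# Growth of the Euler characteristics of the powers of an ample module
-/

set_option autoImplicit false
universe u
open CategoryTheory CategoryTheory.Limits AlgebraicGeometry Opposite TopologicalSpace

namespace Groth.Agent.Pic13.H946.Growth

open Groth.Agent.Ega2 Groth.Agent.Fdesc.LocGen Groth.Agent.Fga.RegSec
open Groth.Agent.Fga.PicMon Groth.Agent.CohqB.SerTw Groth.Agent.Pic13.H946.Core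

theorem mem_support_unit {X : Scheme.{u}} (x : X) : x ∈ CohB1.support (Coh.structureModule X) := by
  intro hsub
  have h1 : (Coh.structureModule X).presheaf.germ ⊤ x (Opens.mem_top _) (one ⊤) = 0 := Subsingleton.elim _ _
  obtain ⟨V, hVU, hxV, hV⟩ := exists_res_eq_zero (Coh.structureModule X) (Opens.mem_top _) _ h1
  have h2 : one (X := X) V = 0 := by
    rw [← res_one hVU]
    exact hV
  have h5 : (1 : Γ(X, V)) = 0 := by
    apply (isGen_one V).ext
    rw [h2, smul_zero, smul_zero]
  have : Nonempty V := ⟨⟨x, hxV⟩⟩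
  exact one_ne_zero h5

theorem support_unit (X : Scheme.{u}) : CohB1.support (Coh.structureModule X) = Set.univ :=
  Set.eq_univ_of_forall mem_support_unit

variable (k : Type u) [Field k] {X : Scheme.{u}} [X.Over (Spec (CommRingCat.of k))]
  [IsProper (X ↘ Spec (CommRingCat.of k))]

include k in
/-- Serre vanishing. -/
theorem van_of_isAmple {H F : X.Modules} (hH : CohB1.IsAmple H) (hF : Coh.IsCoh F) : Van H F :=
  (S0051.result k X (X ↘ Spec (CommRingCat.of k)) H hH.1).mp hH F hF

/-- A coherent module all of whose higher cohomology vanishes, globally generated and nonzero has `χ > 0`. -/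
theorem euler_pos_of_gg (F : X.Modules) (hF : Coh.IsCoh F) (d : ℕ)
    (hv : ∀ q, 0 < q → Subsingleton (Coh.HH X F q)) (hg : Curv2.IsGloballyGenerated F)
    (hne : (CohB1.support F).Nonempty) : 0 < FGA.eulerCharLE k X F d := by
  unfold FGA.eulerCharLE
  rw [Finset.sum_eq_single 0]
  · rw [pow_zero, one_mul]
    have h1 : Module.Finite k (Coh.HH X F 0) := S0002.result k X F hF 0
    have h2 : Nontrivial (Coh.HH X F 0) := by
      by_contra hn
      rw [not_nontrivial_iff_subsingleton] at hn
      have hz : IsZero F := Fga.PosZero.isZero_of_globallyGenerated F hg fun s => by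
        obtain ⟨x, rfl⟩ := (CurvesB.HZero.equivAdd F).surjective s
        rw [Subsingleton.elim x 0, map_zero]
      rw [CohqB.DevSupport.support_eq_empty_of_isZero hz] at hne
      exact Set.not_nonempty_empty hne
    exact_mod_cast Module.finrank_pos (R := k) (M := Coh.HH X F 0)
  · intro i _ hi
    have := hv i (Nat.pos_of_ne_zero hi)
    rw [Module.finrank_zero_of_subsingleton]
    simp
  · intro h
    exact absurd (Finset.mem_range.mpr (Nat.succ_pos d)) h

/-- Euler characteristics of the powers of an ample module on an integral scheme of positive dimension are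
unbounded. -/
theorem growth [IsIntegral X] (d : ℕ) (hd : topologicalKrullDim X ≤ d) (hd1 : 1 ≤ topologicalKrullDim X)
    (H : X.Modules) (hH : CohB1.IsAmple H) (C : ℤ) (n₀ : ℕ) :
    ∃ n, n₀ ≤ n ∧ C < FGA.eulerCharLE k X (CohB1.tensorPow H n) d := by
  have hNoeth : IsNoetherian X := VarietyA.TwistExist.isNoetherian k X
  have hsep : X.IsSeparated := Fga.HypSec.isSeparated k X
  have hO : Coh.IsCoh (Coh.structureModule X) := Fga.HodgeSec.isCoh_of_isInvertible isInvertible_structureModule
  have hsupp : topologicalKrullDim (CohB1.support (Coh.structureModule X)) = topologicalKrullDim X := by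
    rw [support_unit]
    exact (Homeomorph.Set.univ X).isHomeomorph.topologicalKrullDim_eq
  obtain ⟨r, hr⟩ : ∃ r : ℕ, topologicalKrullDim (CohB1.support (Coh.structureModule X)) =
      ((r + 1 : ℕ) : WithBot ℕ∞) := by
    rw [hsupp]
    generalize topologicalKrullDim X = x at hd hd1
    induction x using WithBot.recBotCoe with
    | bot => exact absurd hd1 (by simp)
    | coe x =>
      have h1 : x ≤ (d : ℕ∞) := by exact_mod_cast hd
      have h2 : (1 : ℕ∞) ≤ x := by exact_mod_cast hd1
      obtain ⟨m, rfl⟩ := ENat.ne_top_iff_exists.mp (ne_top_of_le_ne_top (ENat.coe_ne_top d) h1)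
      have h3 : 1 ≤ m := by exact_mod_cast h2
      exact ⟨m - 1, by rw [Nat.sub_add_cancel h3]; rfl⟩
  obtain ⟨a, s, hmono, hdim⟩ := Fga.HypSec.exists_cut k X H hH (Coh.structureModule X) hO r hr
  have hNinv : PicF.IsInvertible (CohB1.tensorPow H (a + 1)) := isInvertible_tensorPow hH.1 _
  set B := CohB1.tensorMod (CohB1.tensorPow H (a + 1)) (Coh.structureModule X) with hB
  have hBcoh : Coh.IsCoh B := by
    have : Coh.IsCoh (CohB1.tensorMod (Coh.structureModule X) (CohB1.tensorPow H (a + 1))) :=
      Fga.TwistCoh.isCoh_tensor hO hNinv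
    exact Sga67.CohBasic.isCoh_of_iso (Tens.swap _ _) this
  set Q := cokernel (mulS s (Coh.structureModule X)) with hQ
  have hQcoh : Coh.IsCoh Q := isCoh_cokernel _ hO.1 hBcoh
  have hne : (CohB1.support Q).Nonempty := by
    by_contra h
    rw [Set.not_nonempty_iff_eq_empty] at h
    have hemp : IsEmpty (CohB1.support Q) := by rw [h]; infer_instance
    have hbot : topologicalKrullDim (CohB1.support Q) = ⊥ := by
      have : IsEmpty (TopologicalSpace.IrreducibleCloseds (CohB1.support Q)) :=
        ⟨fun Z => by obtain ⟨x, -⟩ := Z.isIrreducible.nonempty; exact hemp.elim x⟩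
      rw [topologicalKrullDim, Order.krullDim_eq_bot]
    rw [hbot] at hdim
    exact absurd hdim.symm (by simp)
  obtain ⟨m₁, h₁⟩ := van_of_isAmple k hH hQcoh
  obtain ⟨m₂, h₂⟩ := S2325.result X H hH Q hQcoh
  have hadd := Fga.EulerLEAdd.isAdd_of_finite k X d hd fun M hM i => S0002.result k X M hM i
  have hstep : ∀ m, max m₁ m₂ ≤ m → FGA.eulerCharLE k X (CohB1.tensorPow H m) d + 1 ≤
      FGA.eulerCharLE k X (CohB1.tensorPow H (m + (a + 1))) d := by
    intro m hm
    have hM : PicF.IsInvertible (CohB1.tensorPow H m) := isInvertible_tensorPow hH.1 m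
    have h3 := hadd ((cokSeq (mulS s (Coh.structureModule X))).map (tw (CohB1.tensorPow H m)))
      (shortExact_tw hM (cokSeq_shortExact _)) (Fga.TwistCoh.isCoh_tensor hO hM)
      (Fga.TwistCoh.isCoh_tensor hBcoh hM) (Fga.TwistCoh.isCoh_tensor hQcoh hM)
    have h4 : 0 < FGA.eulerCharLE k X (CohB1.tensorMod Q (CohB1.tensorPow H m)) d :=
      euler_pos_of_gg k _ (Fga.TwistCoh.isCoh_tensor hQcoh hM) d (h₁ m (le_trans (le_max_left _ _) hm))
        (h₂ m (le_trans (le_max_right _ _) hm)) (by rw [support_tw hM]; exact hne)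
    have h5 : FGA.eulerCharLE k X (CohB1.tensorMod B (CohB1.tensorPow H m)) d =
        FGA.eulerCharLE k X (CohB1.tensorPow H (m + (a + 1))) d := by
      obtain ⟨e⟩ := (mc_eq_iff (CohB1.tensorMod B (CohB1.tensorPow H m)) (CohB1.tensorPow H (m + (a + 1)))).mp (by
        rw [hB, mc_tensor, mc_tensor, mc_one, mul_one, mc_tensorPow, mc_tensorPow, mc_tensorPow, ← pow_add,
          add_comm])
      exact euler_iso k X e d
    have h6 : FGA.eulerCharLE k X (CohB1.tensorMod (Coh.structureModule X) (CohB1.tensorPow H m)) d =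
        FGA.eulerCharLE k X (CohB1.tensorPow H m) d := euler_iso k X (Tens.lunit _) d
    have h7 : FGA.eulerCharLE k X (CohB1.tensorMod B (CohB1.tensorPow H m)) d =
        FGA.eulerCharLE k X (CohB1.tensorMod (Coh.structureModule X) (CohB1.tensorPow H m)) d +
        FGA.eulerCharLE k X (CohB1.tensorMod Q (CohB1.tensorPow H m)) d := h3
    rw [← h5, h7, h6]
    omega
  have hiter : ∀ i : ℕ, FGA.eulerCharLE k X (CohB1.tensorPow H (max (max m₁ m₂) n₀)) d + i ≤
      FGA.eulerCharLE k X (CohB1.tensorPow H (max (max m₁ m₂) n₀ + i * (a + 1))) d := by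
    intro i
    induction i with
    | zero => simp
    | succ i ih =>
      have h8 := hstep (max (max m₁ m₂) n₀ + i * (a + 1)) (le_trans (le_max_left _ _) (Nat.le_add_right _ _))
      have h9 : max (max m₁ m₂) n₀ + i * (a + 1) + (a + 1) = max (max m₁ m₂) n₀ + (i + 1) * (a + 1) := by ring
      rw [h9] at h8
      push_cast
      linarith
  set M₀ := FGA.eulerCharLE k X (CohB1.tensorPow H (max (max m₁ m₂) n₀)) d with hM₀
  refine ⟨max (max m₁ m₂) n₀ + (C - M₀ + 1).toNat * (a + 1), le_trans (le_max_right _ _) (Nat.le_add_right _ _), ?_⟩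
  have h10 := hiter (C - M₀ + 1).toNat
  have h11 := Int.self_le_toNat (C - M₀ + 1)
  linarith

end Groth.Agent.Pic13.H946.Growth
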