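import Groth.Agent.VarietyA.EulerAdd
import Mathlib.LinearAlgebra.FiniteDimensional.Lemmas

/-!
# Consequences of the long exact cohomology sequence when some groups of the quotient vanish
-/

set_option autoImplicit false
universe u

open CategoryTheory CategoryTheory.Limits AlgebraicGeometry
open Groth.Agent.VarietyA.EulerLES

namespace Groth.Agent.Pic13.H946.LES

variable (k : Type u) [Field k] {X : Scheme.{u}} [X.Over (Spec (CommRingCat.of k))]
  (S : ShortComplex X.Modules) (hS : S.ShortExact)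

include k hS

/-- `H^q(A) → H^q(B)` is surjective when `H^q(C) = 0`. -/
theorem surj_of_van (q : ℕ) (h : Subsingleton (Coh.HH X S.X₃ q)) :
    Function.Surjective (mapA k S.f q) := fun y =>
  (exactA₂ k S hS q y).mp (Subsingleton.elim _ _)

/-- `H^{q+1}(A) → H^{q+1}(B)` is injective when `H^q(C) = 0`. -/
theorem inj_of_van (q : ℕ) (h : Subsingleton (Coh.HH X S.X₃ q)) :
    Function.Injective (mapA k S.f (q + 1)) := by
  rw [← LinearMap.ker_eq_bot, eq_bot_iff]
  intro x hx
  obtain ⟨y, rfl⟩ := (exactA₁ k S hS q (q + 1) rfl x).mp hx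
  rw [Subsingleton.elim y 0, map_zero]
  exact Submodule.zero_mem _

theorem finrank_eq_of_van (q : ℕ) (h : Subsingleton (Coh.HH X S.X₃ q))
    (h' : Subsingleton (Coh.HH X S.X₃ (q + 1))) :
    Module.finrank k (Coh.HH X S.X₁ (q + 1)) = Module.finrank k (Coh.HH X S.X₂ (q + 1)) :=
  (LinearEquiv.ofBijective (mapA k S.f (q + 1))
    ⟨inj_of_van k S hS q h, surj_of_van k S hS (q + 1) h'⟩).finrank_eq

/-- `H^q(B) → H^q(C)` is surjective when `H^{q+1}(A) → H^{q+1}(B)` is injective. -/
theorem surj_of_inj (q : ℕ) (h : Function.Injective (mapA k S.f (q + 1))) :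
    Function.Surjective (mapA k S.g q) := by
  intro y
  refine (exactA₃ k S hS q (q + 1) rfl y).mp ?_
  refine h ?_
  rw [map_zero]
  exact (exactA₁ k S hS q (q + 1) rfl _).mpr ⟨y, rfl⟩

/-- Vanishing for the two outer terms gives vanishing for the middle term. -/
theorem subsingleton_mid (q : ℕ) (h1 : Subsingleton (Coh.HH X S.X₁ q)) (h3 : Subsingleton (Coh.HH X S.X₃ q)) :
    Subsingleton (Coh.HH X S.X₂ q) :=
  Function.Surjective.subsingleton (surj_of_van k S hS q h3)

theorem finrank_zero_eq (h : Function.Injective (mapA k S.f 1)) [Module.Finite k (Coh.HH X S.X₂ 0)] :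
    Module.finrank k (Coh.HH X S.X₂ 0) = Module.finrank k (Coh.HH X S.X₁ 0) + Module.finrank k (Coh.HH X S.X₃ 0) := by
  rw [VarietyA.EulerAdd.finrank_eq k S hS 0, ← VarietyA.EulerAdd.finrank_eq₀ k S hS]
  congr 1
  rw [LinearMap.range_eq_top.mpr (surj_of_inj k S hS 0 h), finrank_top]

end Groth.Agent.Pic13.H946.LES
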