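import Groth.Agent.Pic13.H946.ChiTriv
import Groth.Agent.Pic13.H946.Growth
import Groth.Agent.Pic13.H946.Exist
import Groth.Agent.S0027
import Groth.Agent.S1526
import Groth.Agent.S2327
import Groth.Agent.S2328
import Groth.Agent.S2329
import Groth.Agent.CohqB.AmpGeneric

/-!
# Ampleness of `H ⊗ L` for `H` ample and `L` not changing Euler characteristics

`isAmple_tensor`: `X` proper over a field, `H` ample, `L` invertible with `χ(F ⊗ L) = χ(F)` for all coherent `F`.
Then `H ⊗ L` is ample.
-/

set_option autoImplicit false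
universe u
open CategoryTheory CategoryTheory.Limits AlgebraicGeometry Opposite TopologicalSpace

namespace Groth.Agent.Pic13.H946.Main

open Groth.Agent.Ega2 Groth.Agent.Fdesc.LocGen Groth.Agent.Fga.PicMon Groth.Agent.CohqB.SerTw
open Groth.Agent.Pic13.H946.Core Groth.Agent.Pic13.H946.Exist Groth.Agent.Pic13.H946.Growth
open Groth.Agent.Pic13.H946.ChiTriv

section Van

variable {X : Scheme.{u}}

theorem van_congr {D F G : X.Modules} (h : Van D F) (e : F ≅ G) : Van D G := by
  obtain ⟨n₀, h⟩ := h
  refine ⟨n₀, fun n hn q hq => ?_⟩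
  have := h n hn q hq
  exact ((VarietyA.EulerLES.equivΓ (Tens.mapTIso e (Iso.refl (CohB1.tensorPow D n))) q).toEquiv.subsingleton_congr).mp this

theorem van_of_isZero {D F : X.Modules} (h : IsZero F) : Van D F := by
  refine ⟨0, fun n _ q _ => Fga.IntNum0.HH_subsingleton_of_isZero ?_ q⟩
  exact (tw (CohB1.tensorPow D n)).map_isZero h

theorem van_of_shortExact {D : X.Modules} (hD : PicF.IsInvertible D) {S : ShortComplex X.Modules}
    (hS : S.ShortExact) (h1 : Van D S.X₁) (h3 : Van D S.X₃) : Van D S.X₂ := by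
  obtain ⟨n₁, h1⟩ := h1
  obtain ⟨n₃, h3⟩ := h3
  refine ⟨max n₁ n₃, fun n hn q hq => ?_⟩
  have := h1 n (le_trans (le_max_left _ _) hn) q hq
  have := h3 n (le_trans (le_max_right _ _) hn) q hq
  have hS' := shortExact_tw (isInvertible_tensorPow hD n) hS
  refine subsingleton_of_forall_eq 0 fun y => ?_
  obtain ⟨x, hx⟩ := (VarietyA.EulerLES.exact₂ _ hS' q y).mp (Subsingleton.elim (α := Coh.HH X
    (CohB1.tensorMod S.X₃ (CohB1.tensorPow D n)) q) _ _)
  have hx0 : x = 0 := Subsingleton.elim (α := Coh.HH X (CohB1.tensorMod S.X₁ (CohB1.tensorPow D n)) q) x 0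
  rw [← hx, hx0]
  exact map_zero (VarietyA.EulerLES.mapΓ (S.map (tw (CohB1.tensorPow D n))).f q)

end Van

section Transfer

variable (k : Type u) [Field k] {X Z : Scheme.{u}} [X.Over (Spec (CommRingCat.of k))]
  [IsProper (X ↘ Spec (CommRingCat.of k))] (i : Z ⟶ X) [IsClosedImmersion i]

include k in
/-- Vanishing for direct images along closed immersions with ample restriction. -/
theorem van_push {D : X.Modules} (hD : PicF.IsInvertible D)
    (hA : CohB1.IsAmple ((Scheme.Modules.pullback i).obj D)) {I : Z.Modules} (hI : Coh.IsCoh I) :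
    Van D ((Coh.push i).obj I) := by
  letI : Z.Over (Spec (CommRingCat.of k)) := ⟨i ≫ (X ↘ Spec (CommRingCat.of k))⟩
  have hZ : IsProper (Z ↘ Spec (CommRingCat.of k)) :=
    inferInstanceAs (IsProper (i ≫ (X ↘ Spec (CommRingCat.of k))))
  obtain ⟨n₀, h⟩ := van_of_isAmple k hA hI
  refine ⟨n₀, fun n hn q hq => ?_⟩
  obtain ⟨e⟩ := push_iso i (isInvertible_tensorPow hD n) I
  obtain ⟨e'⟩ := Ega3B.PullTensor.nonempty_pullPowIso i hD n
  have h1 := h n hn q hq
  have h2 : Subsingleton (Coh.HH Z (CohB1.tensorMod I ((Scheme.Modules.pullback i).obj (CohB1.tensorPow D n))) q) :=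
    ((VarietyA.EulerLES.equivΓ (Tens.mapTIso (Iso.refl I) e') q).toEquiv.subsingleton_congr).mpr h1
  have h3 := ((CurvesC.CurveNum.hhPush i (CohB1.tensorMod I
    ((Scheme.Modules.pullback i).obj (CohB1.tensorPow D n))) q).toEquiv.subsingleton_congr).mp h2
  exact ((VarietyA.EulerLES.equivΓ e q).toEquiv.subsingleton_congr).mpr h3

end Transfer

/-- A module embedded in the structure sheaf of an integral scheme and zero at the generic point is zero. -/
theorem isZero_of_torsion {Z : Scheme.{u}} [IsIntegral Z] {I : Z.Modules} (ι : I ⟶ Coh.structureModule Z)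
    [Mono ι] (h : genericPoint Z ∉ CohB1.support I) : IsZero I := by
  have hsec : ∀ (U : Z.Opens) (f : Γ(I, U)), f = 0 := by
    intro U f
    rcases Set.eq_empty_or_nonempty (U : Set Z) with hU | hU
    · refine res_ext I (ι := PEmpty.{1}) (fun i => i.elim) (fun i => i.elim) ?_ (fun i => i.elim)
      intro x hx
      have : x ∈ (U : Set Z) := hx
      rw [hU] at this
      exact absurd this (Set.notMem_empty x)
    · have hη : genericPoint Z ∈ U := ((genericPoint_spec Z).mem_open_set_iff U.isOpen).mpr (by simpa using hU)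
      rw [CohqB.DevSupport.not_mem_support_iff] at h
      obtain ⟨W, hW, hηW, h0⟩ := Fga.RegSec.exists_res_eq_zero I hη f (Subsingleton.elim _ _)
      have hinj := (Ega1.SubSheaf.mono_iff_injective ι).mp inferInstance
      apply hinj U
      rw [map_zero]
      have h1 : res (Coh.structureModule Z) hW (ι.app U f) = 0 := by
        rw [← app_res, h0, map_zero]
      have : Nonempty W := ⟨⟨_, hηW⟩⟩
      have h2 := map_injective_of_isIntegral Z (homOfLE hW)
      apply h2
      refine h1.trans ?_
      exact (map_zero _).symm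
  apply CohqB.DevSupport.isZero_of_support_eq_empty
  rw [Set.eq_empty_iff_forall_notMem]
  intro x hx
  apply hx
  refine subsingleton_of_forall_eq 0 fun p => ?_
  obtain ⟨V, hxV, f, rfl⟩ := TopCat.Presheaf.exists_germ_eq I.presheaf p
  rw [hsec V f, map_zero]

theorem ne_zero_of_mem {X : Scheme.{u}} {N : X.Modules} (s : Coh.structureModule X ⟶ N) {x : X}
    (hx : x ∈ CohB1.genLocus N s) : s ≠ 0 := by
  rintro rfl
  obtain ⟨U, hU, hgenU⟩ := (mem_genLocus_iff _ _).mp hx
  have h5 : (1 : Γ(X, U)) = 0 := by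
    apply hgenU.ext
    have h6 : sec (0 : Coh.structureModule X ⟶ N) U = 0 := rfl
    rw [h6, smul_zero, smul_zero]
  have : Nonempty U := ⟨⟨_, hU⟩⟩
  exact one_ne_zero h5

/-- The statement for integral schemes of dimension `< n`. -/
def StmtInt (k : Type u) [Field k] (d n : ℕ) : Prop :=
  ∀ (X : Scheme.{u}) [X.Over (Spec (CommRingCat.of k))] [IsProper (X ↘ Spec (CommRingCat.of k))] [IsIntegral X],
    topologicalKrullDim X < (n : WithBot ℕ∞) → ∀ H L : X.Modules, CohB1.IsAmple H → PicF.IsInvertible L →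
      ChiTriv k X d L → CohB1.IsAmple (CohB1.tensorMod H L)

variable (k : Type u) [Field k]

section

variable {X : Scheme.{u}} [X.Over (Spec (CommRingCat.of k))] [IsProper (X ↘ Spec (CommRingCat.of k))]

/-- Vanishing for direct images from small integral closed subschemes. -/
theorem van_push_of_stmt {d n : ℕ} (IH : StmtInt k d n) {H L : X.Modules} (hH : CohB1.IsAmple H)
    (hL : PicF.IsInvertible L) (hχ : ChiTriv k X d L) {Z : Scheme.{u}} (i : Z ⟶ X) [IsClosedImmersion i]
    [IsIntegral Z] (hZ : topologicalKrullDim Z < (n : WithBot ℕ∞)) {I : Z.Modules} (hI : Coh.IsCoh I) :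
    Van (CohB1.tensorMod H L) ((Coh.push i).obj I) := by
  have hNoeth : IsNoetherian X := VarietyA.TwistExist.isNoetherian k X
  letI : Z.Over (Spec (CommRingCat.of k)) := ⟨i ≫ (X ↘ Spec (CommRingCat.of k))⟩
  have hZp : IsProper (Z ↘ Spec (CommRingCat.of k)) :=
    inferInstanceAs (IsProper (i ≫ (X ↘ Spec (CommRingCat.of k))))
  refine van_push k i (isInvertible_tensorMod hH.1 hL) ?_ hI
  refine CohqB.AmpCocycle.isAmple_of_iso (Ega3B.PullTensor.pullTensorIso i hH.1 hL).symm ?_
  exact IH Z hZ _ _ (CohqB.AmpCocycle.isAmple_pullback i hH) (isInvertible_pullback i hL)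
    (ChiTriv.pullback i k rfl hχ hL)

theorem dim_lt_of_range_ne [IsIntegral X] {n : ℕ} (hX : topologicalKrullDim X < ((n + 1 : ℕ) : WithBot ℕ∞))
    {Z : Scheme.{u}} (i : Z ⟶ X) [IsClosedImmersion i] (hr : Set.range i ≠ Set.univ) :
    topologicalKrullDim Z < (n : WithBot ℕ∞) := by
  have h1 : topologicalKrullDim (Set.range i) < (n : WithBot ℕ∞) := by
    refine Fga.DimLt.topologicalKrullDim_lt (A := Set.univ) (IrreducibleSpace.isIrreducible_univ X)
      i.isClosedEmbedding.isClosed_range (Set.subset_univ _) hr ?_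
    refine lt_of_le_of_lt ?_ hX
    exact Topology.IsInducing.subtypeVal.topologicalKrullDim_le
  refine lt_of_le_of_lt ?_ h1
  exact (i.isClosedEmbedding.isEmbedding.toHomeomorph).isInducing.topologicalKrullDim_le

/-- Torsion vanishing. -/
theorem van_of_torsion [IsIntegral X] {d n : ℕ} (IH : StmtInt k d n)
    (hX : topologicalKrullDim X < ((n + 1 : ℕ) : WithBot ℕ∞)) {H L : X.Modules} (hH : CohB1.IsAmple H)
    (hL : PicF.IsInvertible L) (hχ : ChiTriv k X d L) (F : X.Modules) (hF : Coh.IsCoh F)
    (hη : genericPoint X ∉ CohB1.support F) : Van (CohB1.tensorMod H L) F := by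
  have hNoeth : IsNoetherian X := VarietyA.TwistExist.isNoetherian k X
  have hD := isInvertible_tensorMod hH.1 hL
  refine S0027.result X (fun F => genericPoint X ∉ CohB1.support F → Van (CohB1.tensorMod H L) F)
    ?_ ?_ ?_ F hF hη
  · rintro M N ⟨e⟩ h hN
    exact van_congr (h (by rwa [CohqB.DevSupport.support_congr e])) e
  · intro S hS _ _ _ h1 h3 h2
    rw [CohqB.DevSupport.support_shortExact hS] at h2
    exact van_of_shortExact hD hS (h1 fun h => h2 (Or.inl h)) (h3 fun h => h2 (Or.inr h))
  · intro Z i hi hZ I ι hι hI h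
    by_cases hr : Set.range i = Set.univ
    · -- then `I` is zero
      have h1 : i (genericPoint Z) = genericPoint X := by
        have h2 : IsGenericPoint (i (genericPoint Z)) (Set.univ : Set X) := by
          have := Fga.MultInt.closure_generic X Z i
          rw [hr] at this
          exact this
        exact h2.eq (genericPoint_spec X)
      have h2 : genericPoint Z ∉ CohB1.support I := by
        intro h3
        apply h
        rw [CohqB.DevSimple.support_push, ← h1]
        exact ⟨_, h3, rfl⟩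
      exact van_of_isZero ((Coh.push i).map_isZero (isZero_of_torsion ι h2))
    · have hZN : IsLocallyNoetherian Z := LocallyOfFiniteType.isLocallyNoetherian i
      have hO : Coh.IsCoh (Coh.structureModule Z) :=
        VarietyA.CurveFin.isCoh_of_isInvertible isInvertible_structureModule
      exact van_push_of_stmt k IH hH hL hχ i (dim_lt_of_range_ne hX i hr) (S0046.result Z _ _ ι hO hI)

/-- Sections of powers generating at a given point. -/
theorem semiample [IsIntegral X] {d n : ℕ} (hn : n ≤ d) (IH : StmtInt k d n)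
    (hX : topologicalKrullDim X < ((n + 1 : ℕ) : WithBot ℕ∞)) (hX1 : 1 ≤ topologicalKrullDim X)
    {H L : X.Modules} (hH : CohB1.IsAmple H)
    (hL : PicF.IsInvertible L) (hχ : ChiTriv k X d L) (x : X) :
    ∃ (m : ℕ) (t : Coh.structureModule X ⟶ CohB1.tensorPow (CohB1.tensorMod H L) (m + 1)),
      x ∈ CohB1.genLocus _ t := by
  have hNoeth : IsNoetherian X := VarietyA.TwistExist.isNoetherian k X
  have hsep : X.IsSeparated := Fga.HypSec.isSeparated k X
  have hD := isInvertible_tensorMod hH.1 hL
  have hd : topologicalKrullDim X ≤ (d : WithBot ℕ∞) := by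
    refine (Fga.IntNum0.withBot_le_of_lt_succ hX).trans ?_
    exact_mod_cast hn
  have hvan := van_of_torsion k IH hX hH hL hχ
  obtain ⟨n₁, -, h₁⟩ := S2329.result X H (CohB1.tensorMod H L) hH hD
  obtain ⟨n₂, -, h₂⟩ := S2329.result X H (Coh.structureModule X) hH isInvertible_structureModule
  set b := max n₁ n₂ with hb
  have hG : PicF.IsInvertible (CohB1.tensorPow H b) := isInvertible_tensorPow hH.1 b
  obtain ⟨α, hα⟩ := Ega1.GlobGenPt.exists_mem_genLocus (isInvertible_tensorMod hG hD)
    (h₁ b (le_max_left _ _)).2 (genericPoint X)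
  obtain ⟨β, hβ⟩ := Ega1.GlobGenPt.exists_mem_genLocus hG
    (S2329.isGloballyGenerated_of_iso (Tens.runit _) (h₂ b (le_max_right _ _)).2) (genericPoint X)
  obtain ⟨a, s, hs⟩ := exists_section_pow k d (CohB1.tensorMod H L) (CohB1.tensorPow H b) hD hG α (ne_zero_of_mem α hα)
    β (ne_zero_of_mem β hβ) hvan (fun C n₀ => by
      obtain ⟨m, hm, hC⟩ := growth k d hd hX1 H hH C n₀
      exact ⟨m, hm, by rwa [hχ.euler_pow hL hH.1 m]⟩)
  obtain ⟨P, hPx, hP⟩ : ∃ P : X, x ⤳ P ∧ IsClosed ({P} : Set X) := by
    obtain ⟨P, hP1, hP2⟩ := (isClosed_closure (s := ({x} : Set X))).exists_closed_singleton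
      ⟨x, subset_closure rfl⟩
    exact ⟨P, specializes_iff_mem_closure.mpr hP1, hP2⟩
  obtain ⟨m, t, ht⟩ := exists_section_at k (CohB1.tensorMod H L) hD hvan a s hs P hP
  exact ⟨m, t, hPx.mem_open (CohB1.genLocus _ t).isOpen ht⟩

end

/-- The induction step. -/
theorem stmtInt_succ {d n : ℕ} (hn : n ≤ d) (IH : StmtInt k d n) : StmtInt k d (n + 1) := by
  intro X _ _ _ hX H L hH hL hχ
  have hNoeth : IsNoetherian X := VarietyA.TwistExist.isNoetherian k X
  have hsep : X.IsSeparated := Fga.HypSec.isSeparated k X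
  have hD := isInvertible_tensorMod hH.1 hL
  by_cases hX1 : 1 ≤ topologicalKrullDim X
  · have key : ∀ M : X.Modules, PicF.IsInvertible M → ChiTriv k X d M →
        CohB1.IsAmple (CohB1.tensorMod H (CohB1.tensorMod H M)) := fun M hM hχM =>
      S2328.result X H (CohB1.tensorMod H M) hH (isInvertible_tensorMod hH.1 hM)
        (semiample k hn IH hX hX1 hH hM hχM)
    have h1 := key (CohB1.tensorPow L 2) (isInvertible_tensorPow hL 2) (hχ.pow hL 2)
    rw [S2327.result X (CohB1.tensorMod H L) hD 2 two_pos]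
    obtain ⟨e⟩ := (mc_eq_iff (CohB1.tensorMod H (CohB1.tensorMod H (CohB1.tensorPow L 2)))
      (CohB1.tensorPow (CohB1.tensorMod H L) 2)).mp (by
        rw [mc_tensor, mc_tensor, mc_tensorPow, mc_tensorPow, mc_tensor, mul_pow, pow_two (mc H), mul_assoc])
    exact CohqB.AmpCocycle.isAmple_of_iso e h1
  · rw [S0051.result k X (X ↘ Spec (CommRingCat.of k)) _ hD]
    intro M hM
    refine ⟨0, fun m _ p hp => ?_⟩
    refine S1526.result k X _ (Fga.TwistCoh.isCoh_tensor hM (isInvertible_tensorPow hD m)) ?_ p hp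
    have h2 : topologicalKrullDim X ≤ ((0 : ℕ) : WithBot ℕ∞) := by
      refine Fga.IntNum0.withBot_le_of_lt_succ (r := 0) ?_
      rw [not_le] at hX1
      exact_mod_cast hX1
    refine le_trans ?_ h2
    exact Topology.IsInducing.subtypeVal.topologicalKrullDim_le

theorem stmtInt (d : ℕ) : ∀ n : ℕ, n ≤ d + 1 → StmtInt k d n := by
  intro n
  induction n with
  | zero =>
    intro _ X _ _ _ hX
    exfalso
    have := Fga.IntNum0.topologicalKrullDim_nonneg X
    exact absurd hX (not_lt.mpr (by exact_mod_cast this))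
  | succ n ih =>
    intro hn
    exact stmtInt_succ k (by omega) (ih (by omega))

/-- **Main theorem.** -/
theorem isAmple_tensor {X : Scheme.{u}} [X.Over (Spec (CommRingCat.of k))]
    [IsProper (X ↘ Spec (CommRingCat.of k))] (d : ℕ) (hd : topologicalKrullDim X ≤ d) {H L : X.Modules}
    (hH : CohB1.IsAmple H) (hL : PicF.IsInvertible L) (hχ : ChiTriv k X d L) :
    CohB1.IsAmple (CohB1.tensorMod H L) := by
  have hNoeth : IsNoetherian X := VarietyA.TwistExist.isNoetherian k X
  have hD := isInvertible_tensorMod hH.1 hL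
  rw [S0051.result k X (X ↘ Spec (CommRingCat.of k)) _ hD]
  intro M hM
  rcases isEmpty_or_nonempty X with hemp | hne
  · refine ⟨0, fun m _ p hp => ?_⟩
    refine Fga.IntNum0.HH_subsingleton_of_isZero ?_ p
    apply CohqB.DevSupport.isZero_of_support_eq_empty
    exact Set.eq_empty_of_isEmpty _
  · refine S0027.result X (fun F => Van (CohB1.tensorMod H L) F) ?_ ?_ ?_ M hM
    · rintro M N ⟨e⟩ h
      exact van_congr h e
    · intro S hS _ _ _ h1 h3
      exact van_of_shortExact hD hS h1 h3
    · intro Z i hi hZ I ι hι hI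
      have hZN : IsLocallyNoetherian Z := LocallyOfFiniteType.isLocallyNoetherian i
      have hO : Coh.IsCoh (Coh.structureModule Z) :=
        VarietyA.CurveFin.isCoh_of_isInvertible isInvertible_structureModule
      refine van_push_of_stmt k (stmtInt k d (d + 1) le_rfl) hH hL hχ i ?_ (S0046.result Z _ _ ι hO hI)
      refine lt_of_le_of_lt (i.isClosedEmbedding.isInducing.topologicalKrullDim_le.trans hd) ?_
      exact_mod_cast Nat.lt_succ_self d

end Groth.Agent.Pic13.H946.Main
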